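import Cfsg.Agent.SemiClasses.Isometry
import Cfsg.Agent.S0288
import Cfsg.Agent.NilType.Realize

/-!
Quadratic models with prescribed eigenvalue multiplicities and type.
-/

set_option autoImplicit false

open Matrix QuadraticMap CfsgLib.Forms

namespace CfsgLib.SemiClasses

variable {F L : Type*} [Field F] [Fintype F] [Field L] [Finite L] [Algebra F L] {p r : ℕ} [Fact p.Prime]
  [CharP F p] [hr : Fact r.Prime] {ζ : L}

/-- A quadratic space with an isometry of given multiplicities, of given type. -/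
def Model (F : Type*) [Field F] {L : Type*} [Field L] [Algebra F L] (ζ : L) {r : ℕ} (f : ZMod r → ℕ) (s : Prop) :
    Prop :=
  ∃ (ι : Type) (_ : Fintype ι) (_ : DecidableEq ι) (Q : QuadraticForm F (ι → F)) (A : Matrix ι ι F),
    (polarBilin Q).Nondegenerate ∧ A ^ r = 1 ∧ (∀ v, Q (A *ᵥ v) = Q v) ∧ (∀ x : ZMod r, mult ζ A x = f x) ∧
      Even (Fintype.card ι) ∧ (HasHalf Q ↔ s)

variable (hζ : IsPrimitiveRoot ζ r) (hrp : r ≠ p)

omit [Fintype F] [Finite L] [CharP F p] hr in
theorem Model.congr {f g : ZMod r → ℕ} {s t : Prop} (h : Model F ζ f s) (hfg : ∀ x, f x = g x) (hst : s ↔ t) :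
    Model F ζ g t := by
  obtain ⟨ι, _, _, Q, A, h1, h2, h3, h4, h5, h6⟩ := h
  exact ⟨ι, inferInstance, inferInstance, Q, A, h1, h2, h3, fun x => (h4 x).trans (hfg x), h5, h6.trans hst⟩

omit [Finite L] [CharP F p] in
theorem Model.add {f g : ZMod r → ℕ} {s t : Prop} (h : Model F ζ f s) (h' : Model F ζ g t) :
    Model F ζ (fun x => f x + g x) (s ↔ t) := by
  obtain ⟨ι, _, _, Q, A, h1, h2, h3, h4, h5, h6⟩ := h
  obtain ⟨κ, _, _, Q', A', h1', h2', h3', h4', h5', h6'⟩ := h'
  refine ⟨ι ⊕ κ, inferInstance, inferInstance, sumForm Q Q', Matrix.fromBlocks A 0 0 A',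
    nondegenerate_sumForm h1 h1', ?_, fun v => ?_, fun x => ?_, ?_, ?_⟩
  · rw [CfsgLib.NilType.blocks_pow, h2, h2', Matrix.fromBlocks_one]
  · rw [fromBlocks_one_mulVec, sumForm_apply, sumForm_apply, Sum.elim_comp_inl, Sum.elim_comp_inr, h3, h3']
  · rw [mult_blocks, h4, h4']
  · rw [Fintype.card_sum]; exact h5.add h5'
  · rw [hasHalf_sum_iff h1 h1' h5 h5', h6, h6']

include hζ

omit [Finite L] [CharP F p] in
theorem model_pad_plus (d : ℕ) : Model F ζ (fun x : ZMod r => if x = 0 then 2 * d else 0) True := by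
  refine ⟨Fin d ⊕ Fin d, inferInstance, inferInstance, quadPlus F d, 1, nondegenerate_quadPlus d, one_pow r,
    fun v => by rw [Matrix.one_mulVec], fun x => ?_, by simp, iff_true_intro (hasHalf_quadPlus d)⟩
  rw [mult_one hζ]
  simp [two_mul]

omit [Finite L] [CharP F p] in
theorem model_pad_minus (d : ℕ) (hd : 1 ≤ d) :
    Model F ζ (fun x : ZMod r => if x = 0 then 2 * d else 0) False := by
  obtain ⟨c, hc⟩ := exists_irreducible_quadratic F
  refine ⟨(Fin (d - 1) ⊕ Fin (d - 1)) ⊕ Fin 2, inferInstance, inferInstance, quadMinus F (d - 1) 1 c, 1,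
    nondegenerate_quadMinus (d - 1) (anis_of_irred hc), one_pow r, fun v => by rw [Matrix.one_mulVec], fun x => ?_,
    by simp [parity_simps], iff_false_intro (not_hasHalf_quadMinus (d - 1) (anis_of_irred hc))⟩
  rw [mult_one hζ]
  simp only [Fintype.card_sum, Fintype.card_fin]
  split_ifs <;> omega

include hrp

variable {u : (ZMod r)ˣ} (hu : (u : ZMod r) = (Fintype.card F : ℕ)) (hr2 : r ≠ 2)

include hu hr2

/-- Hyperbolic models, when `-1` is not a power of the field order. -/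
theorem model_hyp (hi : Odd (orderOf u)) (f : ZMod r → ℕ) (hf : ∀ x, f (x * (u : ZMod r)) = f x)
    (hneg : ∀ x, f (-x) = f x) (h0 : Even (f 0)) : Model F ζ f True := by
  classical
  haveI := Fintype.ofFinite ((ZMod r)ˣ ⧸ Subgroup.zpowers u)
  let e := Fintype.equivFin ((ZMod r)ˣ ⧸ Subgroup.zpowers u)
  have hne : ∀ a : (ZMod r)ˣ, e (QuotientGroup.mk a) ≠ e (QuotientGroup.mk (-a)) := fun a h => by
    have h2 : a⁻¹ * -a ∈ Subgroup.zpowers u := QuotientGroup.eq.mp (e.injective h)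
    rw [mul_neg, inv_mul_cancel] at h2
    have h3 := orderOf_dvd_natCard (⟨-1, h2⟩ : Subgroup.zpowers u)
    rw [Nat.card_zpowers, ← Subgroup.orderOf_coe, neg_one_pow_units hr2] at h3
    exact Nat.not_even_iff_odd.mpr hi (even_iff_two_dvd.mpr h3)
  let sel : ZMod r → Prop := fun x =>
    ∃ a : (ZMod r)ˣ, (a : ZMod r) = x ∧ e (QuotientGroup.mk a) < e (QuotientGroup.mk (-a))
  have hsel : ∀ x, x ≠ 0 → (sel x ↔ ¬ sel (-x)) := fun x hx => by
    lift x to (ZMod r)ˣ using Ne.isUnit hx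
    constructor
    · rintro ⟨a, ha, h⟩ ⟨b, hb, h'⟩
      rw [Units.ext ha] at h
      rw [Units.ext (hb.trans (Units.val_neg x).symm), neg_neg] at h'
      exact lt_asymm h h'
    · intro h
      refine ⟨x, rfl, lt_of_le_of_ne (not_lt.mp fun h' => h ⟨-x, Units.val_neg x, by rwa [neg_neg]⟩) (hne x)⟩
  have hselq : ∀ x, sel (x * (u : ZMod r)) ↔ sel x := fun x => by
    have hmk : ∀ a : (ZMod r)ˣ, (QuotientGroup.mk (a * u) : (ZMod r)ˣ ⧸ Subgroup.zpowers u) = QuotientGroup.mk a :=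
      fun a => by rw [QuotientGroup.mk_mul, (QuotientGroup.eq_one_iff u).mpr (Subgroup.mem_zpowers u), mul_one]
    constructor
    · rintro ⟨a, ha, h⟩
      refine ⟨a * u⁻¹, by rw [Units.val_mul, ha, Units.mul_inv_cancel_right], ?_⟩
      rw [← hmk (a * u⁻¹), ← hmk (-(a * u⁻¹)), neg_mul, inv_mul_cancel_right]
      exact h
    · rintro ⟨a, ha, h⟩
      refine ⟨a * u, by rw [Units.val_mul, ha], ?_⟩
      rw [hmk, ← neg_mul, hmk]
      exact h
  let fC : ZMod r → ℕ := fun x => if x = 0 then f 0 / 2 else if sel x then f x else 0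
  have hfC : ∀ x, fC x + fC (-x) = f x := fun x => by
    by_cases hx : x = 0
    · subst hx
      obtain ⟨j, hj⟩ := h0
      simp only [fC, neg_zero, if_true, hj]
      omega
    · have := hsel x hx
      simp only [fC, hx, neg_eq_zero, if_false, hneg]
      by_cases hs : sel x
      · rw [if_pos hs, if_neg (this.mp hs), add_zero]
      · rw [if_neg hs, if_pos (not_not.mp fun h => hs (this.mpr h)), zero_add]
  obtain ⟨C, hC, hCf⟩ := exists_of_mult (F := F) (p := p) hζ hrp fC (fun x => by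
    rw [← hu]
    simp only [fC, mul_eq_zero, u.ne_zero, or_false, hselq, hf]) rfl
  have hC' : C.1 ^ r = 1 := by rw [← Units.val_pow_eq_pow_val, hC, Units.val_one]
  have hCi : C.1⁻¹.transpose ^ r = 1 := by
    rw [← Matrix.transpose_pow, Matrix.inv_pow', hC', inv_one, Matrix.transpose_one]
  refine ⟨Fin (∑ x, fC x) ⊕ Fin (∑ x, fC x), inferInstance, inferInstance, quadPlus F _,
    Matrix.fromBlocks C.1 0 0 C.1⁻¹.transpose, nondegenerate_quadPlus _, ?_, fun v => ?_, fun x => ?_, by simp,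
    iff_true_intro (hasHalf_quadPlus _)⟩
  · rw [CfsgLib.NilType.blocks_pow, hC', hCi, Matrix.fromBlocks_one]
  · rw [coe_quadPlus, fromBlocks_one_mulVec]
    show (C.1 *ᵥ (v ∘ Sum.inl)) ⬝ᵥ (C.1⁻¹.transpose *ᵥ (v ∘ Sum.inr)) = (v ∘ Sum.inl) ⬝ᵥ (v ∘ Sum.inr)
    rw [Matrix.dotProduct_mulVec, Matrix.vecMul_transpose, Matrix.mulVec_mulVec,
      Matrix.nonsing_inv_mul _ (Matrix.isUnits_det_units C), Matrix.one_mulVec]
  · have h1 := mult_inv hζ hrp hC' (-x)
    rw [neg_neg] at h1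
    rw [mult_blocks, mult_transpose, h1, hCf, hCf, hfC]

/-- A single anisotropic block through a given eigenvalue, when `-1` is a power of the field order. -/
theorem model_block (hi : Even (orderOf u)) (x : ZMod r) (hx : x ≠ 0) :
    ∃ e : ZMod r → ℕ, Model F ζ e False ∧ (∀ y, e (y * (u : ZMod r)) = e y) ∧ (∀ y, e (-y) = e y) ∧
      ∑ y, e y = orderOf u ∧ e 0 = 0 ∧
      ∀ f : ZMod r → ℕ, (∀ y, f (y * (u : ZMod r)) = f y) → 1 ≤ f x → ∀ y, e y ≤ f y := by
  classical
  obtain ⟨c, hc⟩ := exists_irreducible_quadratic F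
  have hpos := orderOf_pos u
  obtain ⟨M, hM⟩ := hi
  have hqM : r ∣ Fintype.card F ^ M + 1 := by
    rw [← ZMod.natCast_eq_zero_iff, Nat.cast_add, Nat.cast_pow, ← hu, Nat.cast_one, ← Units.val_pow_eq_pow_val]
    have := neg_one_mem_of_even u hr2 ⟨M, hM⟩
    rw [show orderOf u / 2 = M by omega] at this
    rw [this, Units.val_neg, Units.val_one, neg_add_cancel]
  obtain ⟨g, hg⟩ := exists_prime_orderOf_dvd_card' (G := ↥(Cfsg.isometryGroup F (Cfsg.quadFormMinus (M - 1) F 1 c))) r (by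
    rw [Cfsg.Agent.S0288.result rfl M (by omega) 1 c (anis_of_irred hc)]
    exact (hqM.mul_left _).mul_right _)
  have hgr : g ^ r = 1 := hg ▸ pow_orderOf_eq_one g
  obtain ⟨A, hA⟩ : ∃ X : Matrix ((Fin (M - 1) ⊕ Fin (M - 1)) ⊕ Fin 2) ((Fin (M - 1) ⊕ Fin (M - 1)) ⊕ Fin 2) F,
      X = (g : GL ((Fin (M - 1) ⊕ Fin (M - 1)) ⊕ Fin 2) F).1 := ⟨_, rfl⟩
  have hAr : A ^ r = 1 := by
    rw [hA, ← Units.val_pow_eq_pow_val, ← SubmonoidClass.coe_pow, hgr, OneMemClass.coe_one, Units.val_one]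
  have hAQ : ∀ v, quadMinus F (M - 1) 1 c (A *ᵥ v) = quadMinus F (M - 1) 1 c v := fun v => by
    rw [coe_quadMinus, hA]; exact mem_isometryGroup.mp g.2 v
  have hQ := nondegenerate_quadMinus (F := F) (M - 1) (anis_of_irred hc)
  have hcardι : Fintype.card ((Fin (M - 1) ⊕ Fin (M - 1)) ⊕ Fin 2) = orderOf u := by simp; omega
  obtain ⟨x₀, hx₀, hx₀A⟩ : ∃ x₀ : ZMod r, x₀ ≠ 0 ∧ 1 ≤ mult ζ A x₀ := by
    by_contra hne
    push Not at hne
    obtain ⟨P, hP, hPA⟩ := exists_similar hζ hrp (Equiv.refl _) hAr (one_pow r) (B := 1) fun y => by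
      rw [mult_one hζ]
      split_ifs with hy
      · subst hy
        rw [← sum_mult hζ hAr]
        exact (Finset.sum_eq_single 0 (fun y _ hy => Nat.lt_one_iff.mp (hne y hy))
          (fun h => absurd (Finset.mem_univ _) h)).symm
      · exact Nat.lt_one_iff.mp (hne y hy)
    rw [Matrix.reindex_refl_refl, Matrix.one_mul] at hPA
    have hA1 : A = 1 := by
      rw [← Matrix.nonsing_inv_mul_cancel_left P A hP, hPA, Matrix.nonsing_inv_mul _ hP]
    have h1 : g = 1 := Subtype.ext (Units.ext (hA.symm.trans hA1))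
    rw [h1, orderOf_one] at hg
    exact hr.out.one_lt.ne hg
  obtain ⟨e', he'⟩ : ∃ e' : ℕ, (e' : ZMod r) = x * x₀⁻¹ := ⟨(x * x₀⁻¹).val, ZMod.natCast_zmod_val _⟩
  have he0 : (e' : ZMod r) ≠ 0 := he' ▸ mul_ne_zero hx (inv_ne_zero hx₀)
  have hBr : (A ^ e') ^ r = 1 := by rw [← pow_mul, mul_comm, pow_mul, hAr, one_pow]
  have hpowQ : ∀ n v, quadMinus F (M - 1) 1 c (A ^ n *ᵥ v) = quadMinus F (M - 1) 1 c v := fun n => by
    induction n with
    | zero => intro v; rw [pow_zero, Matrix.one_mulVec]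
    | succ n ih => intro v; rw [pow_succ, ← Matrix.mulVec_mulVec, ih, hAQ]
  have hBQ := hpowQ e'
  have hxe : 1 ≤ mult ζ (A ^ e') x := by
    have hx' : x = x₀ * (e' : ZMod r) := by rw [he', mul_comm x, mul_inv_cancel_left₀ hx₀]
    rw [hx', mult_pow hζ hrp hAr he0]
    exact hx₀A
  have hq : ∀ y, mult ζ (A ^ e') (y * (u : ZMod r)) = mult ζ (A ^ e') y := fun y => by rw [hu, mult_frob hζ]
  let O : Finset (ZMod r) := (Finset.range (orderOf u)).image fun n => x * ((u ^ n : (ZMod r)ˣ) : ZMod r)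
  have hO : O.card = orderOf u := by
    rw [Finset.card_image_of_injOn, Finset.card_range]
    intro a ha b hb hab
    exact pow_injOn_Iio_orderOf (Finset.mem_range.mp ha) (Finset.mem_range.mp hb)
      (Units.ext (mul_left_cancel₀ hx hab))
  have hpowq : ∀ (f : ZMod r → ℕ), (∀ y, f (y * (u : ZMod r)) = f y) → ∀ n,
      f (x * ((u ^ n : (ZMod r)ˣ) : ZMod r)) = f x := fun f hf n => by
    induction n with
    | zero => simp
    | succ n ih => rw [pow_succ, Units.val_mul, ← mul_assoc, hf, ih]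
  have hsum : ∑ y : ZMod r, mult ζ (A ^ e') y = orderOf u := by rw [sum_mult hζ hBr, hcardι]
  have hge : ∀ y ∈ O, 1 ≤ mult ζ (A ^ e') y := fun y hy => by
    obtain ⟨n, -, rfl⟩ := Finset.mem_image.mp hy
    rw [hpowq _ hq]; exact hxe
  have hsplit := Finset.sum_add_sum_compl O (fun y => mult ζ (A ^ e') y)
  have hOle : orderOf u ≤ ∑ y ∈ O, mult ζ (A ^ e') y := by
    calc orderOf u = ∑ _y ∈ O, 1 := by rw [Finset.sum_const, hO, smul_eq_mul, mul_one]
      _ ≤ _ := Finset.sum_le_sum hge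
  have hout : ∀ y, y ∉ O → mult ζ (A ^ e') y = 0 := fun y hy => by
    have := Finset.single_le_sum (f := fun y => mult ζ (A ^ e') y) (fun _ _ => Nat.zero_le _) (Finset.mem_compl.mpr hy)
    rw [hsum] at hsplit
    omega
  have hone : mult ζ (A ^ e') x ≤ 1 := by
    have hxO : x ∈ O := Finset.mem_image.mpr ⟨0, Finset.mem_range.mpr hpos, by simp⟩
    have h1 : ∑ y ∈ O, mult ζ (A ^ e') y = O.card * mult ζ (A ^ e') x := by
      rw [← smul_eq_mul, ← Finset.sum_const]
      refine Finset.sum_congr rfl fun y hy => ?_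
      obtain ⟨n, -, rfl⟩ := Finset.mem_image.mp hy
      exact hpowq _ hq n
    rw [hsum, h1, hO] at hsplit
    refine Nat.le_of_mul_le_mul_left ?_ hpos
    omega
  refine ⟨fun y => mult ζ (A ^ e') y, ⟨_, inferInstance, inferInstance, quadMinus F (M - 1) 1 c, A ^ e', hQ, hBr,
    hBQ, fun y => rfl, by rw [hcardι]; exact ⟨M, hM⟩,
    iff_false_intro (not_hasHalf_quadMinus (M - 1) (anis_of_irred hc))⟩, hq,
    mult_neg_of_isometry hζ hrp hQ hBr hBQ, hsum, hout 0 fun h => ?_, fun f hf hfx y => ?_⟩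
  · obtain ⟨n, -, hn⟩ := Finset.mem_image.mp h
    exact mul_ne_zero hx (Units.ne_zero _) hn
  · by_cases hy : y ∈ O
    · obtain ⟨n, -, rfl⟩ := Finset.mem_image.mp hy
      show mult ζ (A ^ e') _ ≤ _
      rw [hpowq _ hq, hpowq f hf]
      omega
    · show mult ζ (A ^ e') y ≤ _
      rw [hout y hy]; exact Nat.zero_le _

/-- Models without fixed vectors. -/
theorem model_moving (f : ZMod r → ℕ) (hf : ∀ x, f (x * (u : ZMod r)) = f x) (hneg : ∀ x, f (-x) = f x)
    (h0 : f 0 = 0) : Model F ζ f (Odd (orderOf u) ∨ Even ((∑ x, f x) / orderOf u)) := by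
  classical
  rcases (orderOf u).even_or_odd with hi | hi
  swap
  · exact (model_hyp hζ hrp hu hr2 hi f hf hneg (h0 ▸ Even.zero)).congr (fun _ => rfl)
      (iff_of_true trivial (Or.inl hi))
  suffices Model F ζ f (Even ((∑ x, f x) / orderOf u)) from
    this.congr (fun _ => rfl) (by rw [or_iff_right (Nat.not_odd_iff_even.mpr hi)])
  induction hn : ∑ x, f x using Nat.strong_induction_on generalizing f with
  | _ n ih =>
    by_cases hz : ∀ x, f x = 0
    · have : n = 0 := by rw [← hn]; exact Finset.sum_eq_zero fun x _ => hz x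
      subst this
      exact (model_pad_plus hζ 0).congr (fun x => by simp [hz]) (by simp)
    push Not at hz
    obtain ⟨x, hx⟩ := hz
    obtain ⟨e, he, heq, hen, hes, he0, hle⟩ := model_block hζ hrp hu hr2 hi x (fun h => hx (h ▸ h0))
    have hle' := hle f hf (Nat.one_le_iff_ne_zero.mpr hx)
    have hsum : ∑ y, (f y - e y) + orderOf u = n := by
      rw [← hes, ← hn, ← Finset.sum_add_distrib]
      exact Finset.sum_congr rfl fun y _ => Nat.sub_add_cancel (hle' y)
    have hpos := orderOf_pos u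
    have h1 := ih (∑ y, (f y - e y)) (by omega) (fun y => f y - e y) (fun y => by simp only [hf, heq])
      (fun y => by simp only [hneg, hen]) (by simp [h0]) rfl
    refine (h1.add he).congr (fun y => Nat.sub_add_cancel (hle' y)) ?_
    rw [← hsum, Nat.add_div_right _ hpos, Nat.even_add_one, iff_false]

/-- Models of even dimension. -/
theorem exists_model (f : ZMod r → ℕ) (hf : ∀ x, f (x * (u : ZMod r)) = f x) (hneg : ∀ x, f (-x) = f x)
    {M : ℕ} (hsum : ∑ x, f x = 2 * M) (s : Prop)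
    (hs : f 0 = 0 → (s ↔ (Odd (orderOf u) ∨ Even (2 * M / orderOf u)))) : Model F ζ f s := by
  classical
  let f' : ZMod r → ℕ := fun x => if x = 0 then 0 else f x
  have hm := model_moving hζ hrp hu hr2 f' (fun x => by simp only [f', mul_eq_zero, u.ne_zero, or_false, hf])
    (fun x => by simp only [f', neg_eq_zero, hneg]) (if_pos rfl)
  have hev : Even (∑ x, f' x) := by
    obtain ⟨ι, _, _, Q, A, -, hA, -, hmul, hev, -⟩ := hm
    rw [← Finset.sum_congr rfl (fun x _ => hmul x), sum_mult hζ hA]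
    exact hev
  have hsplit : ∀ x, f x = f' x + if x = 0 then f 0 else 0 := fun x => by
    by_cases hx : x = 0 <;> simp [f', hx]
  have h0 : ∑ x, f' x + f 0 = 2 * M := by
    rw [← hsum, Finset.sum_congr rfl (fun x _ => hsplit x), Finset.sum_add_distrib, Finset.sum_ite_eq' Finset.univ 0,
      if_pos (Finset.mem_univ _)]
  obtain ⟨d, hd⟩ : ∃ d, f 0 = 2 * d := by
    obtain ⟨j, hj⟩ := hev
    exact ⟨M - j, by omega⟩
  rcases Nat.eq_zero_or_pos d with rfl | hdpos
  · rw [mul_zero] at hd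
    refine hm.congr (fun x => by rw [hsplit x, hd]; simp) ?_
    rw [hd, add_zero] at h0
    rw [hs hd, h0]
  · by_cases hst : s ↔ (Odd (orderOf u) ∨ Even ((∑ x, f' x) / orderOf u))
    · refine (hm.add (model_pad_plus hζ d)).congr (fun x => by rw [hsplit x, hd]) ?_
      rw [iff_true, hst]
    · refine (hm.add (model_pad_minus hζ d hdpos)).congr (fun x => by rw [hsplit x, hd]) ?_
      rw [iff_false]
      tauto

/-- The type of an isometry without fixed vectors is determined. -/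
theorem hasHalf_of_moving {ι : Type} [Fintype ι] [DecidableEq ι] {Q : QuadraticForm F (ι → F)}
    (hQ : (polarBilin Q).Nondegenerate) {A : Matrix ι ι F} (hA : A ^ r = 1) (hAQ : ∀ v, Q (A *ᵥ v) = Q v)
    (h0 : mult ζ A (0 : ZMod r) = 0) :
    HasHalf Q ↔ (Odd (orderOf u) ∨ Even (Fintype.card ι / orderOf u)) := by
  have hm := model_moving hζ hrp hu hr2 (fun x => mult ζ A x) (fun x => by rw [hu, mult_frob hζ])
    (mult_neg_of_isometry hζ hrp hQ hA hAQ) h0
  rw [sum_mult hζ hA] at hm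
  obtain ⟨κ, _, _, Q', B, hQ', hB, hBQ, hmul, -, hT⟩ := hm
  rw [← hT]
  exact hasHalf_iff_of_moving hζ hrp hr2 hQ hQ' hA hB hAQ hBQ (fun x => (hmul x).symm) h0

end CfsgLib.SemiClasses
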