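import Cfsg.Agent.SemiClasses.Models
import Cfsg.Agent.S2618

/-!
Classes of elements of prime order in orthogonal groups.
-/

set_option autoImplicit false

open Matrix QuadraticMap CfsgLib.Forms

namespace CfsgLib.SemiClasses

variable {F : Type*} [Field F] [Fintype F]

theorem exists_iso_of_type {ι κ : Type} [Fintype ι] [Fintype κ] {Q : QuadraticForm F (ι → F)}
    {Q' : QuadraticForm F (κ → F)} (hQ : (polarBilin Q).Nondegenerate) (hQ' : (polarBilin Q').Nondegenerate) {m : ℕ}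
    (hι : Fintype.card ι = 2 * m) (hκ : Fintype.card κ = 2 * m) (h : HasHalf Q ↔ HasHalf Q') :
    ∃ g : (ι → F) ≃ₗ[F] (κ → F), ∀ v, Q' (g v) = Q v := by
  classical
  by_cases hs : HasHalf Q
  · obtain ⟨g, hg⟩ := exists_iso_plus hQ hι hs
    obtain ⟨g', hg'⟩ := exists_iso_plus hQ' hκ (h.mp hs)
    exact ⟨g.trans g'.symm, fun v => by rw [LinearEquiv.trans_apply, ← hg', g'.apply_symm_apply, hg]⟩
  · obtain ⟨c, hc⟩ := exists_irreducible_quadratic F
    obtain ⟨-, g, hg⟩ := exists_iso_minus hQ hι hs (anis_of_irred hc)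
    obtain ⟨-, g', hg'⟩ := exists_iso_minus hQ' hκ (fun h' => hs (h.mpr h')) (anis_of_irred hc)
    exact ⟨g.trans g'.symm, fun v => by rw [LinearEquiv.trans_apply, ← hg', g'.apply_symm_apply, hg]⟩

variable {p r : ℕ} [Fact p.Prime] [CharP F p] [hr : Fact r.Prime]

theorem pow_eq_one_of_mem {ι : Type} [Fintype ι] [DecidableEq ι] {f : (ι → F) → F}
    {g : ↥(Cfsg.isometryGroup F f)} (hg : g ^ r = 1) : ((g : GL ι F) : Matrix ι ι F) ^ r = 1 := by
  rw [← Units.val_pow_eq_pow_val, ← SubmonoidClass.coe_pow, hg, OneMemClass.coe_one, Units.val_one]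

/-- The count in even dimension. -/
theorem card_orth_even (hrp : r ≠ p) (hr2 : r ≠ 2) {u : (ZMod r)ˣ} (hu : (u : ZMod r) = (Fintype.card F : ℕ))
    {ι : Type} [Fintype ι] [DecidableEq ι] (Q : QuadraticForm F (ι → F)) (hQ : (polarBilin Q).Nondegenerate)
    {m : ℕ} (hι : Fintype.card ι = 2 * m) {s : Prop} [Decidable s] (hs : HasHalf Q ↔ s) :
    Nat.card {C : ConjClasses ↥(Cfsg.isometryGroup F ⇑Q) //
        ∃ g : ↥(Cfsg.isometryGroup F ⇑Q), ConjClasses.mk g = C ∧ orderOf g = r} =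
      Nat.choose (2 * m / (if Odd (orderOf u) then 2 * orderOf u else orderOf u) +
          (r - 1) / (if Odd (orderOf u) then 2 * orderOf u else orderOf u))
          ((r - 1) / (if Odd (orderOf u) then 2 * orderOf u else orderOf u)) -
        (if (if Odd (orderOf u) then 2 * orderOf u else orderOf u) ∣ 2 * m ∧
            ¬ (s ↔ (Odd (orderOf u) ∨ Even (2 * m / orderOf u))) then
          Nat.choose (2 * m / (if Odd (orderOf u) then 2 * orderOf u else orderOf u) +
            (r - 1) / (if Odd (orderOf u) then 2 * orderOf u else orderOf u) - 1)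
            ((r - 1) / (if Odd (orderOf u) then 2 * orderOf u else orderOf u) - 1)
        else 0) - 1 := by
  classical
  obtain ⟨P, hP, hLfin, hζ⟩ := exists_root_field F hr.out (natCast_ne_zero hrp)
  obtain ⟨h, hh, hinv⟩ := exists_multiplier u hr2
  haveI := finite_invariant h (2 * m)
  haveI : Finite {f : ZMod r → ℕ // ((∀ x, f (x * (h : ZMod r)) = f x) ∧ ∑ x, f x = 2 * m) ∧
      ¬ (f 0 = 0 ∧ ¬ (s ↔ (Odd (orderOf u) ∨ Even (2 * m / orderOf u))))} :=
    Finite.of_injective (β := {f : ZMod r → ℕ // (∀ x, f (x * (h : ZMod r)) = f x) ∧ ∑ x, f x = 2 * m})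
      (fun f => ⟨f.1, f.2.1⟩) fun a b hab => Subtype.ext (congrArg Subtype.val hab :)
  rw [← hh, ← card_invariant_except h (2 * m)]
  refine card_classes (fun (g : ↥(Cfsg.isometryGroup F ⇑Q)) (x : ZMod r) =>
      mult (AdjoinRoot.root P) ((g : GL ι F) : Matrix ι ι F) x)
    _ (isConj_iff_mult hζ hrp hr2 hQ) (fun g hg => ?_) fun f hf => ?_
  · have hgQ : ∀ v, Q (((g : GL ι F) : Matrix ι ι F) *ᵥ v) = Q v := mem_isometryGroup.mp g.2
    refine ⟨⟨(hinv _).mp ⟨fun x => by rw [hu, mult_frob hζ],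
      mult_neg_of_isometry hζ hrp hQ (pow_eq_one_of_mem hg) hgQ⟩, ?_⟩, fun ⟨h0, hn⟩ => hn ?_⟩
    · rw [sum_mult hζ (pow_eq_one_of_mem hg), hι]
    · rw [← hs, hasHalf_of_moving hζ hrp hu hr2 hQ (pow_eq_one_of_mem hg) hgQ h0, hι]
  · obtain ⟨⟨hfh, hsum⟩, hP0⟩ := hf
    obtain ⟨hf, hneg⟩ := (hinv f).mpr hfh
    obtain ⟨κ, _, _, Q', A, hQ', hA, hAQ, hmul, -, hT⟩ := exists_model hζ hrp hu hr2 f hf hneg hsum s fun h0 => by
      by_contra hc; exact hP0 ⟨h0, hc⟩
    have hκ : Fintype.card κ = 2 * m := by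
      rw [← sum_mult hζ hA, ← hsum]; exact Finset.sum_congr rfl fun x _ => hmul x
    obtain ⟨g, hg⟩ := exists_iso_of_type hQ' hQ hκ hι (hT.trans hs.symm)
    obtain ⟨B, hB, hBm⟩ := transport (ζ := AdjoinRoot.root P) (f := ⇑Q) hA hAQ g hg
    exact ⟨B, hB, funext fun x => (hBm x).trans (hmul x)⟩

theorem exists_iso_scaled {ι : Type} [Fintype ι] {Q : QuadraticForm F (ι → F)}
    (hQ : (polarBilin Q).Nondegenerate) {m : ℕ} (hι : Fintype.card ι = 2 * m + 1) :
    ∃ c : F, c ≠ 0 ∧ ∃ g : (ι → F) ≃ₗ[F] (Unit ⊕ (Fin m ⊕ Fin m) → F),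
      ∀ v, (c • quadOdd F m) (g v) = Q v := by
  obtain ⟨b, hb0, hbx, hbs, hbp, hbo⟩ := Cfsg.Agent.S2618.result (m := m)
    (by rw [Module.finrank_fintype_fun_eq_card, hι]) Q hQ
  obtain ⟨c, hc⟩ : ∃ c, c = Q (b (Sum.inl ())) := ⟨_, rfl⟩
  rw [← hc] at hb0
  let w : Unit ⊕ (Fin m ⊕ Fin m) → Fˣ :=
    Sum.elim (fun _ => 1) (Sum.elim (fun _ => Units.mk0 c⁻¹ (inv_ne_zero hb0)) fun _ => 1)
  refine ⟨c, hb0, isometry_of_bases b ((Pi.basisFun F _).unitsSMul w) (fun i => ?_) fun i j => ?_⟩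
  · rw [Module.Basis.unitsSMul_apply, Pi.basisFun_apply, Units.smul_def, QuadraticMap.map_smul,
      _root_.smul_apply, coe_quadOdd]
    rcases i with i | i | i
    · simp [w, hc, Cfsg.quadFormOdd, Pi.single_apply]
    · simp [w, (hbs i).1, Cfsg.quadFormOdd, Pi.single_apply]
    · simp [w, (hbs i).2, Cfsg.quadFormOdd, Pi.single_apply]
  · rw [Module.Basis.unitsSMul_apply, Module.Basis.unitsSMul_apply, Pi.basisFun_apply, Pi.basisFun_apply,
      Units.smul_def, Units.smul_def, polar_smul_left, polar_smul_right]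
    have hpc : ∀ u v, polar (⇑(c • quadOdd F m)) u v = c * polar (Cfsg.quadFormOdd m F) u v := fun u v => by
      simp only [polar, _root_.smul_apply, coe_quadOdd, smul_eq_mul]
      ring
    have hxx : polar (⇑Q) (b (Sum.inl ())) (b (Sum.inl ())) = 2 * c := by
      rw [polar_self, hc, nsmul_eq_mul, Nat.cast_two]
    have h1 : ∀ k, polar (⇑Q) (b (Sum.inr (Sum.inl k))) (b (Sum.inl ())) = 0 := fun k => by
      rw [polar_comm]; exact (hbx k).1
    have h2 : ∀ k, polar (⇑Q) (b (Sum.inr (Sum.inr k))) (b (Sum.inl ())) = 0 := fun k => by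
      rw [polar_comm]; exact (hbx k).2
    have h3 : ∀ k l, polar (⇑Q) (b (Sum.inr (Sum.inr k))) (b (Sum.inr (Sum.inl l))) = if l = k then 1 else 0 :=
      fun k l => by rw [polar_comm]; exact hbp l k
    rw [hpc, polar_odd]
    rcases i with i | i | i <;> rcases j with j | j | j
    · simp [w, Pi.single_apply, hxx]; ring
    · simp [w, Pi.single_apply, (hbx j).1]
    · simp [w, Pi.single_apply, (hbx j).2]
    · simp [w, Pi.single_apply, h1]
    · simp [w, Pi.single_apply, (hbo i j).1]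
    · by_cases hij : i = j <;> simp [w, Pi.single_apply, hbp, hij, Ne.symm, hb0]
    · simp [w, Pi.single_apply, h2]
    · by_cases hij : j = i <;> simp [w, Pi.single_apply, h3, hij, Ne.symm, hb0]
    · simp [w, Pi.single_apply, (hbo i j).2]

/-- The count in odd dimension, for a form whose multiples exhaust the odd-dimensional forms. -/
theorem card_orth_odd_aux (hrp : r ≠ p) (hr2 : r ≠ 2) (h2 : (2 : F) ≠ 0) {u : (ZMod r)ˣ}
    (hu : (u : ZMod r) = (Fintype.card F : ℕ)) (m : ℕ) {ι : Type} [Fintype ι] [DecidableEq ι]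
    (Q : QuadraticForm F (ι → F)) (hQ : (polarBilin Q).Nondegenerate) (hι : Fintype.card ι = 2 * m + 1)
    (hiso : ∀ (κ : Type) [Fintype κ] (Q' : QuadraticForm F (κ → F)), (polarBilin Q').Nondegenerate →
      Fintype.card κ = 2 * m + 1 → ∃ c : F, c ≠ 0 ∧ ∃ g : (κ → F) ≃ₗ[F] (ι → F), ∀ v, (c • Q) (g v) = Q' v) :
    Nat.card {C : ConjClasses ↥(Cfsg.isometryGroup F ⇑Q) //
        ∃ g : ↥(Cfsg.isometryGroup F ⇑Q), ConjClasses.mk g = C ∧ orderOf g = r} =
      Nat.choose ((2 * m + 1) / (if Odd (orderOf u) then 2 * orderOf u else orderOf u) +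
          (r - 1) / (if Odd (orderOf u) then 2 * orderOf u else orderOf u))
          ((r - 1) / (if Odd (orderOf u) then 2 * orderOf u else orderOf u)) - 1 := by
  classical
  obtain ⟨P, hP, hLfin, hζ⟩ := exists_root_field F hr.out (natCast_ne_zero hrp)
  obtain ⟨h, hh, hinv⟩ := exists_multiplier u hr2
  haveI := finite_invariant h (2 * m + 1)
  rw [← hh, ← card_invariant h (2 * m + 1)]
  refine card_classes (fun (g : ↥(Cfsg.isometryGroup F ⇑Q)) (x : ZMod r) =>
      mult (AdjoinRoot.root P) ((g : GL ι F) : Matrix ι ι F) x)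
    _ (isConj_iff_mult hζ hrp hr2 hQ) (fun g hg => ?_) fun f hf => ?_
  · refine ⟨(hinv _).mp ⟨fun x => by rw [hu, mult_frob hζ],
      mult_neg_of_isometry hζ hrp hQ (pow_eq_one_of_mem hg) (mem_isometryGroup.mp g.2)⟩, ?_⟩
    rw [sum_mult hζ (pow_eq_one_of_mem hg), hι]
  · obtain ⟨hfh, hsum⟩ := hf
    obtain ⟨hf, hneg⟩ := (hinv f).mpr hfh
    have hkeven : Even (orderOf h) := by
      rw [hh]
      split_ifs with hi
      · exact even_two_mul _
      · exact Nat.not_odd_iff_even.mp hi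
    have h01 : 1 ≤ f 0 := by
      haveI := Fintype.ofFinite ((ZMod r)ˣ ⧸ Subgroup.zpowers h)
      obtain ⟨e, he⟩ := exists_orbit_equiv h (2 * m + 1)
      have h0 : f 0 = _ := he ⟨f, hfh, hsum⟩
      have hle := (Nat.le_div_iff_mul_le (orderOf_pos h)).mp (e ⟨f, hfh, hsum⟩).2
      obtain ⟨j, hj⟩ := hkeven.mul_right (∑ o, (e ⟨f, hfh, hsum⟩).1 o)
      rw [mul_comm] at hle
      omega
    obtain ⟨f', hf'⟩ : ∃ f' : ZMod r → ℕ, f' = fun x => f x - if x = 0 then 1 else 0 := ⟨_, rfl⟩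
    have hf'f : ∀ x, f' x + (if x = 0 then 1 else 0) = f x := fun x => by
      subst hf'
      split_ifs with hx <;> simp [hx]
      exact Nat.sub_add_cancel h01
    have hsum' : ∑ x, f' x = 2 * m := by
      have := hsum
      rw [← Finset.sum_congr rfl (fun x _ => hf'f x), Finset.sum_add_distrib, Finset.sum_ite_eq' Finset.univ 0,
        if_pos (Finset.mem_univ _)] at this
      omega
    obtain ⟨κ, _, _, Q', A, hQ', hA, hAQ, hmul, -, -⟩ := exists_model hζ hrp hu hr2 f'
      (fun x => by subst hf'; simp only [mul_eq_zero, u.ne_zero, or_false, hf])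
      (fun x => by subst hf'; simp only [neg_eq_zero, hneg]) hsum'
      (Odd (orderOf u) ∨ Even (2 * m / orderOf u)) fun _ => Iff.rfl
    have hκ : Fintype.card κ = 2 * m := by
      rw [← sum_mult hζ hA, ← hsum']; exact Finset.sum_congr rfl fun x _ => hmul x
    let Q1 : QuadraticForm F (Fin 1 → F) := linMulLin (LinearMap.proj 0) (LinearMap.proj 0)
    have hQ1 : (polarBilin Q1).Nondegenerate := nondegenerate_iff.mpr fun x hx => funext fun j => by
      have h' := hx (fun _ => 1)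
      simp only [Q1, polar, linMulLin_apply, LinearMap.proj_apply, Pi.add_apply] at h'
      rw [Subsingleton.elim j 0]
      refine (mul_eq_zero.mp (?_ : (2 : F) * x 0 = 0)).resolve_left h2
      linear_combination h'
    obtain ⟨c, hc, g, hg⟩ := hiso _ _ (nondegenerate_sumForm hQ' hQ1)
      (by rw [Fintype.card_sum, hκ, Fintype.card_fin])
    have hAr : Matrix.fromBlocks A 0 0 (1 : Matrix (Fin 1) (Fin 1) F) ^ r = 1 := by
      rw [CfsgLib.NilType.blocks_pow, hA, one_pow, Matrix.fromBlocks_one]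
    obtain ⟨B, hB, hBm⟩ := transport (ζ := AdjoinRoot.root P) (f := ⇑(c • Q)) hAr (fun v => by
      rw [fromBlocks_one_mulVec, sumForm_apply, sumForm_apply, Sum.elim_comp_inl, Sum.elim_comp_inr, hAQ,
        Matrix.one_mulVec]) g hg
    refine ⟨⟨B.1, mem_isometryGroup.mpr fun v => mul_left_cancel₀ hc ?_⟩, Subtype.ext ?_, funext fun x => ?_⟩
    · have := mem_isometryGroup.mp B.2 v
      rwa [_root_.smul_apply, _root_.smul_apply, smul_eq_mul, smul_eq_mul] at this
    · have := congrArg Subtype.val hB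
      rw [SubmonoidClass.coe_pow] at this ⊢
      exact this
    · refine (hBm x).trans ?_
      rw [mult_blocks, hmul, mult_one hζ, Fintype.card_fin, hf'f]

/-- The count for the standard odd-dimensional form. -/
theorem card_orth_odd (hrp : r ≠ p) (hr2 : r ≠ 2) (h2 : (2 : F) ≠ 0) {u : (ZMod r)ˣ}
    (hu : (u : ZMod r) = (Fintype.card F : ℕ)) (m : ℕ) :
    Nat.card {C : ConjClasses ↥(Cfsg.isometryGroup F ⇑(quadOdd F m)) //
        ∃ g : ↥(Cfsg.isometryGroup F ⇑(quadOdd F m)), ConjClasses.mk g = C ∧ orderOf g = r} =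
      Nat.choose ((2 * m + 1) / (if Odd (orderOf u) then 2 * orderOf u else orderOf u) +
          (r - 1) / (if Odd (orderOf u) then 2 * orderOf u else orderOf u))
          ((r - 1) / (if Odd (orderOf u) then 2 * orderOf u else orderOf u)) - 1 :=
  card_orth_odd_aux hrp hr2 h2 hu m (quadOdd F m) (nondegenerate_quadOdd m h2) (by simp; omega)
    fun _ _ _ hQ' hκ => exists_iso_scaled hQ' hκ

end CfsgLib.SemiClasses
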