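import Cfsg.Agent.PrimeClasses.GL

/-!
Counting functions on `ZMod r` invariant under a multiplier, and counting classes through an invariant.
-/

set_option autoImplicit false

namespace CfsgLib.SemiClasses

variable {r : ℕ} [hr : Fact r.Prime]

theorem sum_zmod {M : Type*} [AddCommMonoid M] (f : ZMod r → M) :
    ∑ x, f x = f 0 + ∑ u : (ZMod r)ˣ, f u := by
  classical
  rw [← Finset.add_sum_erase _ _ (Finset.mem_univ (0 : ZMod r))]
  congr 1
  refine (Finset.sum_nbij (fun u : (ZMod r)ˣ => (u : ZMod r)) (fun u _ => by simp [u.ne_zero])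
    (fun a _ b _ h => Units.ext h) (fun x hx => ?_) fun _ _ => rfl).symm
  exact ⟨Units.mk0 x (Finset.mem_erase.mp hx).1, by simp, rfl⟩

theorem card_quot (h : (ZMod r)ˣ) : Nat.card ((ZMod r)ˣ ⧸ Subgroup.zpowers h) = (r - 1) / orderOf h := by
  have h1 := (Subgroup.zpowers h).card_eq_card_quotient_mul_card_subgroup
  rw [Nat.card_zpowers, Nat.card_eq_fintype_card (α := (ZMod r)ˣ), ZMod.card_units] at h1
  rw [h1, Nat.mul_div_cancel _ (orderOf_pos h)]

theorem sum_units (h : (ZMod r)ˣ) [Fintype ((ZMod r)ˣ ⧸ Subgroup.zpowers h)]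
    (a : (ZMod r)ˣ ⧸ Subgroup.zpowers h → ℕ) :
    ∑ u : (ZMod r)ˣ, a (QuotientGroup.mk u) = orderOf h * ∑ o, a o := by
  classical
  haveI : Fintype (Subgroup.zpowers h) := Fintype.ofFinite _
  rw [← Equiv.sum_comp (Subgroup.groupEquivQuotientProdSubgroup (s := Subgroup.zpowers h)).symm (fun u : (ZMod r)ˣ => a (QuotientGroup.mk u)),
    Fintype.sum_prod_type, Finset.mul_sum]
  refine Finset.sum_congr rfl fun o _ => ?_
  have hcard : Fintype.card (Subgroup.zpowers h) = orderOf h := by rw [← Nat.card_eq_fintype_card, Nat.card_zpowers]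
  rw [Finset.sum_congr rfl fun (k : Subgroup.zpowers h) _ => ?_, Finset.sum_const, Finset.card_univ, hcard, smul_eq_mul]
  obtain ⟨u, rfl⟩ := QuotientGroup.mk_surjective o
  congr 1
  have := (Subgroup.groupEquivQuotientProdSubgroup (s := Subgroup.zpowers h)).apply_symm_apply (QuotientGroup.mk u, k)
  exact congrArg Prod.fst this

/-- Invariant functions with a given sum, by orbits. -/
theorem exists_orbit_equiv (h : (ZMod r)ˣ) (N : ℕ) [Fintype ((ZMod r)ˣ ⧸ Subgroup.zpowers h)] :
    ∃ e : {f : ZMod r → ℕ // (∀ x, f (x * (h : ZMod r)) = f x) ∧ ∑ x, f x = N} ≃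
        {a : (ZMod r)ˣ ⧸ Subgroup.zpowers h → ℕ // ∑ o, a o ≤ N / orderOf h},
      ∀ f, f.1 0 = N - orderOf h * ∑ o, (e f).1 o := by
  classical
  have hk : 0 < orderOf h := orderOf_pos h
  have hinv : ∀ (f : ZMod r → ℕ), (∀ x, f (x * (h : ZMod r)) = f x) → ∀ a b : (ZMod r)ˣ,
      (QuotientGroup.mk a : (ZMod r)ˣ ⧸ Subgroup.zpowers h) = QuotientGroup.mk b → f a = f b := fun f hf a b hab => by
    obtain ⟨n, hn⟩ := mem_powers_iff_mem_zpowers.mpr (QuotientGroup.eq.mp hab)
    have hb : b = a * h ^ n := by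
      rw [show h ^ n = a⁻¹ * b from hn, mul_inv_cancel_left]
    subst hb
    clear hn hab
    induction n with
    | zero => rw [pow_zero, mul_one]
    | succ n ih => rw [pow_succ, ← mul_assoc, Units.val_mul, hf]; exact ih
  let down : (ZMod r → ℕ) → ((ZMod r)ˣ ⧸ Subgroup.zpowers h → ℕ) := fun f o => f (Quotient.out o : (ZMod r)ˣ)
  have hdown : ∀ f, (∀ x, f (x * (h : ZMod r)) = f x) → ∀ u : (ZMod r)ˣ, down f (QuotientGroup.mk u) = f u :=
    fun f hf u => hinv f hf _ u (QuotientGroup.out_eq' _)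
  let up : ((ZMod r)ˣ ⧸ Subgroup.zpowers h → ℕ) → ZMod r → ℕ := fun a x =>
    if hx : x = 0 then N - orderOf h * ∑ o, a o else a (QuotientGroup.mk (Units.mk0 x hx))
  have hup : ∀ a (u : (ZMod r)ˣ), up a u = a (QuotientGroup.mk u) := fun a u => by
    simp only [up, u.ne_zero, dite_false, Units.mk0_val]
  have hsum : ∀ f, (∀ x, f (x * (h : ZMod r)) = f x) → ∑ x, f x = N → f 0 + orderOf h * ∑ o, down f o = N :=
    fun f hf hN => by
      rw [sum_zmod, ← Finset.sum_congr rfl (fun (u : (ZMod r)ˣ) _ => hdown f hf u), sum_units] at hN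
      exact hN
  refine ⟨{ toFun := fun f => ⟨down f.1, (Nat.le_div_iff_mul_le hk).mpr (by
              have := hsum f.1 f.2.1 f.2.2; rw [mul_comm]; omega)⟩
            invFun := fun a => ⟨up a.1, fun x => ?_, ?_⟩
            left_inv := fun f => Subtype.ext (funext fun x => ?_)
            right_inv := fun a => Subtype.ext (funext fun o => ?_) }, fun f => ?_⟩
  · rcases eq_or_ne x 0 with rfl | hx
    · rw [zero_mul]
    · lift x to (ZMod r)ˣ using Ne.isUnit hx
      rw [← Units.val_mul, hup, hup, QuotientGroup.mk_mul,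
        (QuotientGroup.eq_one_iff h).mpr (Subgroup.mem_zpowers h), mul_one]
  · have h0 : up a.1 0 = N - orderOf h * ∑ o, a.1 o := dif_pos rfl
    rw [sum_zmod, Finset.sum_congr rfl (fun u _ => hup a.1 u), sum_units, h0]
    have := (Nat.le_div_iff_mul_le hk).mp a.2
    rw [mul_comm] at this
    omega
  · rcases eq_or_ne x 0 with rfl | hx
    · show up (down f.1) 0 = f.1 0
      rw [show up (down f.1) 0 = N - orderOf h * ∑ o, down f.1 o from dif_pos rfl]
      have := hsum f.1 f.2.1 f.2.2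
      omega
    · lift x to (ZMod r)ˣ using Ne.isUnit hx
      exact (hup _ x).trans (hdown f.1 f.2.1 x)
  · show down (up a.1) o = a.1 o
    simp only [down, hup, QuotientGroup.out_eq']
  · show f.1 0 = N - orderOf h * ∑ o, down f.1 o
    have := hsum f.1 f.2.1 f.2.2
    omega

/-- The number of invariant functions. -/
theorem card_invariant (h : (ZMod r)ˣ) (N : ℕ) :
    Nat.card {f : ZMod r → ℕ // (∀ x, f (x * (h : ZMod r)) = f x) ∧ ∑ x, f x = N} =
      Nat.choose (N / orderOf h + (r - 1) / orderOf h) ((r - 1) / orderOf h) := by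
  classical
  haveI := Fintype.ofFinite ((ZMod r)ˣ ⧸ Subgroup.zpowers h)
  obtain ⟨e, -⟩ := exists_orbit_equiv h N
  rw [Nat.card_congr e, CfsgLib.PrimeClasses.card_sum_le, ← Nat.card_eq_fintype_card, card_quot]

theorem card_sum_eq (α : Type*) [Fintype α] [DecidableEq α] [Nonempty α] (M : ℕ) :
    Nat.card {a : α → ℕ // ∑ x, a x = M} = Nat.choose (M + Fintype.card α - 1) (Fintype.card α - 1) := by
  rw [Nat.card_congr (Sym.equivNatSumOfFintype α M).symm, Nat.card_eq_fintype_card, Sym.card_sym_eq_choose]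
  have : 1 ≤ Fintype.card α := Fintype.card_pos
  rw [show M + Fintype.card α - 1 = M + (Fintype.card α - 1) by omega,
    show Fintype.card α + M - 1 = (Fintype.card α - 1) + M by omega, ← Nat.choose_symm_add,
    add_comm (Fintype.card α - 1) M]

/-- The number of invariant functions vanishing at zero. -/
theorem card_invariant_full (h : (ZMod r)ˣ) (N : ℕ) :
    Nat.card {f : ZMod r → ℕ // ((∀ x, f (x * (h : ZMod r)) = f x) ∧ ∑ x, f x = N) ∧ f 0 = 0} =
      if orderOf h ∣ N then Nat.choose (N / orderOf h + (r - 1) / orderOf h - 1) ((r - 1) / orderOf h - 1)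
      else 0 := by
  classical
  haveI := Fintype.ofFinite ((ZMod r)ˣ ⧸ Subgroup.zpowers h)
  obtain ⟨e, he⟩ := exists_orbit_equiv h N
  have hk : 0 < orderOf h := orderOf_pos h
  split_ifs with hd
  · obtain ⟨M, rfl⟩ := hd
    rw [Nat.mul_div_cancel_left _ hk]
    have h1 : Nat.card {a : (ZMod r)ˣ ⧸ Subgroup.zpowers h → ℕ // ∑ o, a o = M} =
        Nat.choose (M + (r - 1) / orderOf h - 1) ((r - 1) / orderOf h - 1) := by
      rw [card_sum_eq, ← Nat.card_eq_fintype_card, card_quot]
    rw [← h1]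
    refine Nat.card_congr ((Equiv.subtypeSubtypeEquivSubtypeInter _ (fun f : ZMod r → ℕ => f 0 = 0)).symm.trans ?_)
    refine (e.subtypeEquiv (q := fun a => ∑ o, a.1 o = M) fun f => ?_).trans
      (Equiv.subtypeSubtypeEquivSubtype (q := fun a : (ZMod r)ˣ ⧸ Subgroup.zpowers h → ℕ => ∑ o, a o = M) fun {a} ha => ?_)
    · rw [he f]
      have := (e f).2.trans (Nat.mul_div_cancel_left M hk).le
      rw [Nat.sub_eq_zero_iff_le]
      constructor
      · exact fun hle => le_antisymm this (Nat.le_of_mul_le_mul_left hle hk)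
      · exact fun heq => by rw [heq]
    · rw [Nat.mul_div_cancel_left _ hk]; exact ha.le
  · rw [Nat.card_eq_zero]
    refine Or.inl ⟨fun f => hd ?_⟩
    have h0 : (0 : ℕ) = _ := f.2.2.symm.trans (he ⟨f.1, f.2.1⟩)
    have := (Nat.le_div_iff_mul_le hk).mp (e ⟨f.1, f.2.1⟩).2
    rw [mul_comm] at this
    exact Dvd.intro _ (le_antisymm this (Nat.sub_eq_zero_iff_le.mp h0.symm))

theorem finite_invariant (h : (ZMod r)ˣ) (N : ℕ) :
    Finite {f : ZMod r → ℕ // (∀ x, f (x * (h : ZMod r)) = f x) ∧ ∑ x, f x = N} := by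
  refine Finite.of_injective (β := ZMod r → Fin (N + 1))
    (fun f x => ⟨f.1 x, Nat.lt_succ_iff.mpr ((Finset.single_le_sum (fun _ _ => Nat.zero_le _) (Finset.mem_univ x)).trans f.2.2.le)⟩)
    fun a b hab => Subtype.ext (funext fun x => congrArg Fin.val (congrFun hab x))

/-- The number of invariant functions avoiding those vanishing at zero that satisfy `P`. -/
theorem card_invariant_except (h : (ZMod r)ˣ) (N : ℕ) (P : Prop) [Decidable P] :
    Nat.card {f : ZMod r → ℕ // ((∀ x, f (x * (h : ZMod r)) = f x) ∧ ∑ x, f x = N) ∧ ¬ (f 0 = 0 ∧ P)} =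
      Nat.choose (N / orderOf h + (r - 1) / orderOf h) ((r - 1) / orderOf h) -
        if orderOf h ∣ N ∧ P then Nat.choose (N / orderOf h + (r - 1) / orderOf h - 1) ((r - 1) / orderOf h - 1)
        else 0 := by
  classical
  haveI := finite_invariant h N
  haveI := Fintype.ofFinite {f : ZMod r → ℕ // (∀ x, f (x * (h : ZMod r)) = f x) ∧ ∑ x, f x = N}
  rw [← card_invariant h N]
  by_cases hP : P
  · simp only [hP, and_true]
    rw [← card_invariant_full h N, ← Nat.card_congr (Equiv.subtypeSubtypeEquivSubtypeInter _ _),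
      ← Nat.card_congr (Equiv.subtypeSubtypeEquivSubtypeInter
        (fun f : ZMod r → ℕ => (∀ x, f (x * (h : ZMod r)) = f x) ∧ ∑ x, f x = N) (fun f => f 0 = 0)),
      Nat.card_eq_fintype_card, Nat.card_eq_fintype_card, Nat.card_eq_fintype_card, Fintype.card_subtype_compl]
  · simp only [hP, and_false, not_false_eq_true, and_true, if_false, Nat.sub_zero]

/-- Classes of elements of order `r` through a complete invariant. -/
theorem card_classes {G : Type*} [Group G] (inv : G → (ZMod r → ℕ)) (R : (ZMod r → ℕ) → Prop)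
    [Finite {f : ZMod r → ℕ // R f}]
    (hconj : ∀ g h : G, g ^ r = 1 → h ^ r = 1 → (IsConj g h ↔ inv g = inv h))
    (hmem : ∀ g : G, g ^ r = 1 → R (inv g)) (hex : ∀ f, R f → ∃ g : G, g ^ r = 1 ∧ inv g = f) :
    Nat.card {C : ConjClasses G // ∃ g : G, ConjClasses.mk g = C ∧ orderOf g = r} =
      Nat.card {f : ZMod r → ℕ // R f} - 1 := by
  classical
  choose x hx hxi using fun f : {f : ZMod r → ℕ // R f} => hex f.1 f.2
  let Φ : {f : ZMod r → ℕ // R f} → {C : ConjClasses G // ∃ g, ConjClasses.mk g = C ∧ g ^ r = 1} :=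
    fun f => ⟨ConjClasses.mk (x f), x f, rfl, hx f⟩
  have hΦ : Function.Bijective Φ := by
    refine ⟨fun a b h => Subtype.ext ?_, ?_⟩
    · rw [← hxi a, ← hxi b]
      exact (hconj _ _ (hx a) (hx b)).mp (ConjClasses.mk_eq_mk_iff_isConj.mp (congrArg Subtype.val h))
    · rintro ⟨C, g, rfl, hg⟩
      exact ⟨⟨inv g, hmem g hg⟩, Subtype.ext (ConjClasses.mk_eq_mk_iff_isConj.mpr
        ((hconj _ _ (hx _) hg).mpr (hxi _)))⟩
  haveI : Finite {C : ConjClasses G // ∃ g, ConjClasses.mk g = C ∧ g ^ r = 1} :=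
    Finite.of_equiv _ (Equiv.ofBijective Φ hΦ)
  have hset : {C : ConjClasses G | ∃ g, ConjClasses.mk g = C ∧ orderOf g = r} =
      {C : ConjClasses G | ∃ g, ConjClasses.mk g = C ∧ g ^ r = 1} \ {ConjClasses.mk 1} := by
    ext C
    simp only [Set.mem_setOf_eq, Set.mem_diff, Set.mem_singleton_iff]
    constructor
    · rintro ⟨g, rfl, hg⟩
      refine ⟨⟨g, rfl, hg ▸ pow_orderOf_eq_one g⟩, fun h => ?_⟩
      have := isConj_one_right.mp (ConjClasses.mk_eq_mk_iff_isConj.mp h).symm
      rw [this, orderOf_one] at hg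
      exact hr.out.one_lt.ne hg
    · rintro ⟨⟨g, rfl, hg⟩, h1⟩
      exact ⟨g, rfl, orderOf_eq_prime hg (fun h => h1 (by rw [h]))⟩
  show Nat.card ({C : ConjClasses G | ∃ g, ConjClasses.mk g = C ∧ orderOf g = r} : Set _) = _
  rw [hset, Nat.card_coe_set_eq, Set.ncard_diff_singleton_of_mem (by exact ⟨1, rfl, one_pow r⟩),
    ← Nat.card_coe_set_eq]
  exact congrArg (· - 1) (Nat.card_congr (Equiv.ofBijective Φ hΦ)).symm

section multiplier

variable (q : (ZMod r)ˣ)

theorem neg_one_pow_units (hr2 : r ≠ 2) : orderOf (-1 : (ZMod r)ˣ) = 2 := by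
  refine orderOf_eq_prime (by simp) fun h => hr2 ?_
  have h2 : ((2 : ℕ) : ZMod r) = 0 := by
    have h1 := congrArg Units.val h
    rw [Units.val_neg, Units.val_one] at h1
    push_cast
    linear_combination -h1
  rw [ZMod.natCast_eq_zero_iff] at h2
  exact (Nat.prime_dvd_prime_iff_eq hr.out Nat.prime_two).mp h2

theorem neg_one_mem_of_even (hr2 : r ≠ 2) (hi : Even (orderOf q)) : q ^ (orderOf q / 2) = -1 := by
  have hpos : 0 < orderOf q := orderOf_pos q
  obtain ⟨j, hj⟩ := hi
  have h1 : (q ^ (orderOf q / 2)) ^ 2 = 1 := by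
    rw [← pow_mul, show orderOf q / 2 * 2 = orderOf q by omega, pow_orderOf_eq_one]
  have h2 : q ^ (orderOf q / 2) ≠ 1 := pow_ne_one_of_lt_orderOf (by omega) (by omega)
  refine Units.ext ?_
  have h1' := congrArg Units.val h1
  rw [Units.val_pow_eq_pow_val, Units.val_one, pow_two, mul_self_eq_one_iff] at h1'
  exact h1'.resolve_left fun h => h2 (Units.ext h)

theorem orderOf_neg_odd (hr2 : r ≠ 2) (hi : Odd (orderOf q)) : orderOf (-q) = 2 * orderOf q := by
  rw [← neg_one_mul, (Commute.all _ _).orderOf_mul_eq_mul_orderOf_of_coprime, neg_one_pow_units hr2]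
  rw [neg_one_pow_units hr2]
  exact Nat.coprime_two_left.mpr hi

/-- Invariance under a multiplier and negation amounts to invariance under a single multiplier. -/
theorem exists_multiplier (hr2 : r ≠ 2) :
    ∃ h : (ZMod r)ˣ, orderOf h = (if Odd (orderOf q) then 2 * orderOf q else orderOf q) ∧
      ∀ f : ZMod r → ℕ, ((∀ x, f (x * (q : ZMod r)) = f x) ∧ ∀ x, f (-x) = f x) ↔ ∀ x, f (x * (h : ZMod r)) = f x := by
  by_cases hi : Odd (orderOf q)
  · refine ⟨-q, by rw [if_pos hi, orderOf_neg_odd q hr2 hi], fun f => ⟨fun ⟨h1, h2⟩ x => ?_, fun h => ?_⟩⟩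
    · rw [Units.val_neg, mul_neg, h2, h1]
    · have hp : ∀ n x, f (x * (((-q) ^ n : (ZMod r)ˣ) : ZMod r)) = f x := fun n => by
        induction n with
        | zero => simp
        | succ n ih => intro x; rw [pow_succ, Units.val_mul, ← mul_assoc, h, ih]
      have hneg : (-q) ^ orderOf q = -1 := by rw [hi.neg_pow, pow_orderOf_eq_one]
      have hneg' : ∀ x, f (-x) = f x := fun x => by simpa [hneg] using hp (orderOf q) x
      exact ⟨fun x => by rw [← hneg', ← mul_neg, ← Units.val_neg, h], hneg'⟩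
  · refine ⟨q, by rw [if_neg hi], fun f => ⟨fun h => h.1, fun h => ⟨h, fun x => ?_⟩⟩⟩
    have hp : ∀ n x, f (x * ((q ^ n : (ZMod r)ˣ) : ZMod r)) = f x := fun n => by
      induction n with
      | zero => simp
      | succ n ih => intro x; rw [pow_succ, Units.val_mul, ← mul_assoc, h, ih]
    simpa [neg_one_mem_of_even q hr2 (Nat.not_odd_iff_even.mp hi)] using hp (orderOf q / 2) x

theorem orderOf_neg_even (hr2 : r ≠ 2) (hi : Even (orderOf q)) :
    orderOf (-q) = if orderOf q % 4 = 2 then orderOf q / 2 else orderOf q := by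
  have h1 := neg_one_mem_of_even q hr2 hi
  have hpos : 0 < orderOf q := orderOf_pos q
  obtain ⟨j, hj⟩ := hi
  have hsq : (-q) ^ 2 = q ^ 2 := neg_sq q
  have hdvd : j ∣ orderOf (-q) := by
    have h2 : orderOf (q ^ 2) = j := by
      rw [orderOf_pow' q two_ne_zero, Nat.gcd_eq_right ⟨j, by omega⟩]; omega
    rw [← h2, ← hsq]
    exact orderOf_pow_dvd 2
  have hj' : orderOf q / 2 = j := by omega
  rw [hj'] at h1
  split_ifs with h4
  · have hjo : Odd j := Nat.odd_iff.mpr (by omega)
    rw [hj']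
    exact Nat.dvd_antisymm (orderOf_dvd_of_pow_eq_one (by rw [hjo.neg_pow, h1, neg_neg])) hdvd
  · have hje : Even j := Nat.even_iff.mpr (by omega)
    have hne : (-q) ^ j ≠ 1 := by
      rw [hje.neg_pow, h1]
      intro h
      have := neg_one_pow_units (r := r) hr2
      rw [h, orderOf_one] at this
      omega
    have hle : orderOf (-q) ∣ orderOf q := orderOf_dvd_of_pow_eq_one (by
      rw [hj, ← two_mul, mul_comm, pow_mul, hje.neg_pow, h1]; simp)
    obtain ⟨c, hc⟩ := hdvd
    rw [hc, hj] at hle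
    have : c ∣ 2 := Nat.dvd_of_mul_dvd_mul_left (show 0 < j by omega) (by rwa [mul_two])
    rcases (Nat.dvd_prime Nat.prime_two).mp this with rfl | rfl
    · rw [mul_one] at hc
      exact absurd (hc ▸ pow_orderOf_eq_one (-q)) hne
    · omega

end multiplier

end CfsgLib.SemiClasses
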