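import Cfsg.Agent.Forms.EvenType
import Cfsg.Agent.Forms.Sum

/-!
The type of an orthogonal sum of two even-dimensional quadratic spaces.
-/

set_option autoImplicit false

open QuadraticMap CfsgLib.Forms

namespace CfsgLib.SemiClasses

variable {F : Type*} [Field F]

/-- There is a totally singular subspace of half the dimension. -/
def HasHalf {ι : Type} [Fintype ι] (Q : QuadraticForm F (ι → F)) : Prop :=
  ∃ S : Submodule F (ι → F), (∀ v ∈ S, Q v = 0) ∧ Fintype.card ι ≤ 2 * Module.finrank F S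

variable {ι κ : Type} [Fintype ι] [DecidableEq ι] [Fintype κ] [DecidableEq κ]

omit [DecidableEq ι] [DecidableEq κ] in
theorem HasHalf.map {Q : QuadraticForm F (ι → F)} {Q' : QuadraticForm F (κ → F)} (g : (ι → F) ≃ₗ[F] (κ → F))
    (hg : ∀ v, Q' (g v) = Q v) (h : HasHalf Q) : HasHalf Q' := by
  obtain ⟨S, hS, hd⟩ := h
  refine ⟨S.map (g : (ι → F) →ₗ[F] (κ → F)), ?_, ?_⟩
  · rintro _ ⟨v, hv, rfl⟩
    rw [LinearEquiv.coe_coe, hg]
    exact hS v hv
  · rw [LinearEquiv.finrank_map_eq]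
    have := g.finrank_eq
    rw [Module.finrank_fintype_fun_eq_card, Module.finrank_fintype_fun_eq_card] at this
    omega

omit [DecidableEq ι] [DecidableEq κ] in
theorem hasHalf_congr {Q : QuadraticForm F (ι → F)} {Q' : QuadraticForm F (κ → F)} (g : (ι → F) ≃ₗ[F] (κ → F))
    (hg : ∀ v, Q' (g v) = Q v) : HasHalf Q ↔ HasHalf Q' :=
  ⟨HasHalf.map g hg, HasHalf.map g.symm fun v => by rw [← hg, g.apply_symm_apply]⟩

theorem hasHalf_quadPlus (m : ℕ) : HasHalf (quadPlus F m) := by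
  refine ⟨LinearMap.ker (LinearMap.funLeft F F (Sum.inl : Fin m → Fin m ⊕ Fin m)), fun v hv => ?_, ?_⟩
  · rw [coe_quadPlus]
    exact Finset.sum_eq_zero fun i _ => by
      rw [show v (Sum.inl i) = 0 from congrFun (LinearMap.mem_ker.mp hv) i, zero_mul]
  · have h := LinearMap.finrank_range_add_finrank_ker
      (LinearMap.funLeft F F (Sum.inl : Fin m → Fin m ⊕ Fin m))
    rw [LinearMap.range_eq_top.mpr (fun w : Fin m → F => ⟨Sum.elim w (0 : Fin m → F), funext fun i => rfl⟩), finrank_top] at h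
    simp at h ⊢
    omega

variable [Finite F]

theorem not_hasHalf_quadMinus (m : ℕ) {a b : F}
    (hab : ∀ z₁ z₂ : F, z₁ ^ 2 + a * z₁ * z₂ + b * z₂ ^ 2 = 0 → z₁ = 0 ∧ z₂ = 0) :
    ¬ HasHalf (quadMinus F m a b) := by
  rintro ⟨S, hS, hd⟩
  have := finrank_le_of_singular_minus hab (U := S) fun u hu => by rw [← coe_quadMinus]; exact hS u hu
  simp at hd
  omega

omit [DecidableEq ι] in
theorem exists_iso_plus {Q : QuadraticForm F (ι → F)} (hQ : (polarBilin Q).Nondegenerate) {m : ℕ}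
    (hι : Fintype.card ι = 2 * m) (h : HasHalf Q) :
    ∃ g : (ι → F) ≃ₗ[F] (Fin m ⊕ Fin m → F), ∀ v, quadPlus F m (g v) = Q v := by
  have hV : Module.finrank F (ι → F) = 2 * m := by rw [Module.finrank_fintype_fun_eq_card, hι]
  rcases Nat.eq_zero_or_pos m with rfl | hm
  · haveI : IsEmpty ι := Fintype.card_eq_zero_iff.mp (by omega)
    refine ⟨LinearEquiv.ofFinrankEq _ _ (by rw [hV]; simp), fun v => ?_⟩
    rw [Subsingleton.elim v 0, map_zero, QuadraticMap.map_zero, QuadraticMap.map_zero]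
  · obtain ⟨S, hS, hd⟩ := h
    obtain ⟨g, hg⟩ := exists_isometry_plus hm hV hQ S hS (by omega)
    exact ⟨g, fun v => by rw [coe_quadPlus]; exact hg v⟩

omit [DecidableEq ι] in
theorem exists_iso_minus {Q : QuadraticForm F (ι → F)} (hQ : (polarBilin Q).Nondegenerate) {m : ℕ}
    (hι : Fintype.card ι = 2 * m) (h : ¬ HasHalf Q) {a b : F}
    (hab : ∀ z₁ z₂ : F, z₁ ^ 2 + a * z₁ * z₂ + b * z₂ ^ 2 = 0 → z₁ = 0 ∧ z₂ = 0) :
    1 ≤ m ∧ ∃ g : (ι → F) ≃ₗ[F] ((Fin (m - 1) ⊕ Fin (m - 1)) ⊕ Fin 2 → F),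
      ∀ v, quadMinus F (m - 1) a b (g v) = Q v := by
  have hV : Module.finrank F (ι → F) = 2 * m := by rw [Module.finrank_fintype_fun_eq_card, hι]
  have hm : 1 ≤ m := by
    by_contra hm
    refine h ⟨⊥, fun v hv => ?_, by omega⟩
    rw [(Submodule.mem_bot F).mp hv, QuadraticMap.map_zero]
  refine ⟨hm, ?_⟩
  obtain ⟨g, hg⟩ := exists_isometry_minus hm hV hQ (fun ⟨S, hS, hd⟩ => h ⟨S, hS, by omega⟩) hab
  exact ⟨g, fun v => by rw [coe_quadMinus]; exact hg v⟩

theorem exists_irreducible_quadratic (F : Type*) [Field F] [Finite F] : ∃ c : F, ∀ t : F, t ^ 2 + t + c ≠ 0 := by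
  by_contra h
  push Not at h
  have hs : Function.Surjective fun t : F => -(t ^ 2 + t) := fun c => by
    obtain ⟨t, ht⟩ := h c
    exact ⟨t, by linear_combination -ht⟩
  have := Finite.injective_iff_surjective.mpr hs
  have h01 : (0 : F) = -1 := this (by simp)
  simp at h01

theorem hasHalf_sum_plus {Q₁ : QuadraticForm F (ι → F)} {Q₂ : QuadraticForm F (κ → F)}
    (h₁ : HasHalf Q₁) (h₂ : HasHalf Q₂) : HasHalf (sumForm Q₁ Q₂) := by
  obtain ⟨S, hS, hd⟩ := h₁
  obtain ⟨T, hT, hd'⟩ := h₂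
  let φ : (S × T) →ₗ[F] (ι ⊕ κ → F) :=
    (LinearEquiv.sumArrowLequivProdArrow ι κ F F).symm.toLinearMap ∘ₗ S.subtype.prodMap T.subtype
  have hφl : ∀ x, (φ x) ∘ Sum.inl = (x.1 : ι → F) := fun x => funext fun i => by simp [φ]
  have hφr : ∀ x, (φ x) ∘ Sum.inr = (x.2 : κ → F) := fun x => funext fun i => by simp [φ]
  refine ⟨LinearMap.range φ, ?_, ?_⟩
  · rintro _ ⟨x, rfl⟩
    rw [sumForm_apply, hφl, hφr, hS _ x.1.2, hT _ x.2.2, add_zero]
  · rw [LinearMap.finrank_range_of_inj, Module.finrank_prod, Fintype.card_sum]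
    · omega
    · intro x y hxy
      refine Prod.ext (Subtype.ext ?_) (Subtype.ext ?_)
      · rw [← hφl, hxy, hφl]
      · rw [← hφr, hxy, hφr]

theorem not_hasHalf_sum {Q₁ : QuadraticForm F (ι → F)} {Q₂ : QuadraticForm F (κ → F)}
    (n₁ : (polarBilin Q₁).Nondegenerate) (n₂ : (polarBilin Q₂).Nondegenerate)
    (e₁ : Even (Fintype.card ι)) (e₂ : Even (Fintype.card κ))
    (h₁ : HasHalf Q₁) (h₂ : ¬ HasHalf Q₂) : ¬ HasHalf (sumForm Q₁ Q₂) := by
  obtain ⟨c, hc⟩ := exists_irreducible_quadratic F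
  obtain ⟨m, hm⟩ := e₁
  obtain ⟨m', hm'⟩ := e₂
  obtain ⟨g, hg⟩ := exists_iso_plus n₁ (m := m) (by omega) h₁
  obtain ⟨hpos, g', hg'⟩ := exists_iso_minus n₂ (m := m') (by omega) h₂ (anis_of_irred hc)
  rintro ⟨S, hS, hd⟩
  let φ : (ι ⊕ κ → F) →ₗ[F] ((Fin (m + (m' - 1)) ⊕ Fin (m + (m' - 1))) ⊕ Fin 2 → F) :=
    { toFun := fun v => Sum.elim (Sum.elim
        (Fin.append (fun i => g (v ∘ Sum.inl) (Sum.inl i)) (fun i => g' (v ∘ Sum.inr) (Sum.inl (Sum.inl i))))
        (Fin.append (fun i => g (v ∘ Sum.inl) (Sum.inr i)) (fun i => g' (v ∘ Sum.inr) (Sum.inl (Sum.inr i)))))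
        (fun k => g' (v ∘ Sum.inr) (Sum.inr k))
      map_add' := fun u v => by
        simp only [show (u + v) ∘ Sum.inl = u ∘ Sum.inl + v ∘ Sum.inl from rfl,
          show (u + v) ∘ Sum.inr = u ∘ Sum.inr + v ∘ Sum.inr from rfl, map_add]
        funext j
        rcases j with (j | j) | j <;> [refine Fin.addCases (fun i => ?_) (fun i => ?_) j;
          refine Fin.addCases (fun i => ?_) (fun i => ?_) j; skip] <;> simp
      map_smul' := fun a v => by
        simp only [show (a • v) ∘ Sum.inl = a • (v ∘ Sum.inl) from rfl,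
          show (a • v) ∘ Sum.inr = a • (v ∘ Sum.inr) from rfl, map_smul, RingHom.id_apply]
        funext j
        rcases j with (j | j) | j <;> [refine Fin.addCases (fun i => ?_) (fun i => ?_) j;
          refine Fin.addCases (fun i => ?_) (fun i => ?_) j; skip] <;> simp }
  have hφ : ∀ v, Cfsg.quadFormMinus (m + (m' - 1)) F 1 c (φ v) = sumForm Q₁ Q₂ v := fun v => by
    rw [sumForm_apply, ← hg, ← hg', coe_quadPlus, coe_quadMinus]
    simp only [φ, LinearMap.coe_mk, AddHom.coe_mk, Cfsg.quadFormMinus, Cfsg.quadFormPlus, Sum.elim_inl, Sum.elim_inr,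
      Fin.sum_univ_add, Fin.append_left, Fin.append_right]
    ring
  have hinj : Function.Injective φ := fun u v huv => by
    have h1 : g (u ∘ Sum.inl) = g (v ∘ Sum.inl) := funext fun j => by
      rcases j with i | i
      · simpa [φ] using congrFun huv (Sum.inl (Sum.inl (Fin.castAdd (m' - 1) i)))
      · simpa [φ] using congrFun huv (Sum.inl (Sum.inr (Fin.castAdd (m' - 1) i)))
    have h2 : g' (u ∘ Sum.inr) = g' (v ∘ Sum.inr) := funext fun j => by
      rcases j with (i | i) | i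
      · simpa [φ] using congrFun huv (Sum.inl (Sum.inl (Fin.natAdd m i)))
      · simpa [φ] using congrFun huv (Sum.inl (Sum.inr (Fin.natAdd m i)))
      · simpa [φ] using congrFun huv (Sum.inr i)
    funext j
    rcases j with j | j
    · exact congrFun (g.injective h1) j
    · exact congrFun (g'.injective h2) j
  have := finrank_le_of_singular_minus (m := m + (m' - 1)) (anis_of_irred hc) (U := S.map φ) (by
    rintro _ ⟨v, hv, rfl⟩
    rw [hφ]; exact hS v hv)
  rw [← (Submodule.equivMapOfInjective φ hinj S).finrank_eq] at this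
  rw [Fintype.card_sum] at hd
  omega

theorem hasHalf_sum_minus {Q₁ : QuadraticForm F (ι → F)} {Q₂ : QuadraticForm F (κ → F)}
    (n₁ : (polarBilin Q₁).Nondegenerate) (n₂ : (polarBilin Q₂).Nondegenerate)
    (e₁ : Even (Fintype.card ι)) (e₂ : Even (Fintype.card κ))
    (h₁ : ¬ HasHalf Q₁) (h₂ : ¬ HasHalf Q₂) : HasHalf (sumForm Q₁ Q₂) := by
  obtain ⟨c, hc⟩ := exists_irreducible_quadratic F
  obtain ⟨m, hm⟩ := e₁
  obtain ⟨m', hm'⟩ := e₂
  obtain ⟨hpos, g, hg⟩ := exists_iso_minus n₁ (m := m) (by omega) h₁ (anis_of_irred hc)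
  have hneg : (polarBilin (-Q₂)).Nondegenerate := nondegenerate_iff.mpr fun x hx => by
    refine polar_ext n₂ fun y => ?_
    have := hx y
    simp only [polar, QuadraticMap.neg_apply] at this ⊢
    linear_combination -this
  obtain ⟨hpos', g', hg'⟩ := exists_iso_minus hneg (m := m') (by omega) (fun ⟨S, hS, hd⟩ =>
    h₂ ⟨S, fun v hv => neg_eq_zero.mp (hS v hv), hd⟩) (anis_of_irred hc)
  let φ : ((Fin (m - 1) → F) × (Fin (m' - 1) → F) × (Fin 2 → F)) →ₗ[F] (ι ⊕ κ → F) :=
    { toFun := fun x => Sum.elim (g.symm (Sum.elim (Sum.elim x.1 0) x.2.2))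
        (g'.symm (Sum.elim (Sum.elim x.2.1 0) x.2.2))
      map_add' := fun u v => by
        rw [show (Sum.elim (Sum.elim (u + v).1 0) (u + v).2.2 : _ → F) =
            Sum.elim (Sum.elim u.1 0) u.2.2 + Sum.elim (Sum.elim v.1 0) v.2.2 from
          funext fun j => by rcases j with (j | j) | j <;> simp,
          show (Sum.elim (Sum.elim (u + v).2.1 0) (u + v).2.2 : _ → F) =
            Sum.elim (Sum.elim u.2.1 0) u.2.2 + Sum.elim (Sum.elim v.2.1 0) v.2.2 from
          funext fun j => by rcases j with (j | j) | j <;> simp, map_add, map_add]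
        funext j; rcases j with j | j <;> rfl
      map_smul' := fun a v => by
        rw [show (Sum.elim (Sum.elim (a • v).1 0) (a • v).2.2 : _ → F) = a • Sum.elim (Sum.elim v.1 0) v.2.2 from
          funext fun j => by rcases j with (j | j) | j <;> simp,
          show (Sum.elim (Sum.elim (a • v).2.1 0) (a • v).2.2 : _ → F) = a • Sum.elim (Sum.elim v.2.1 0) v.2.2 from
          funext fun j => by rcases j with (j | j) | j <;> simp, map_smul, map_smul]
        funext j; rcases j with j | j <;> rfl }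
  refine ⟨LinearMap.range φ, ?_, ?_⟩
  · rintro _ ⟨x, rfl⟩
    rw [sumForm_apply]
    show Q₁ (g.symm _) + Q₂ (g'.symm _) = 0
    have e1 := hg (g.symm (Sum.elim (Sum.elim x.1 0) x.2.2))
    have e2 := hg' (g'.symm (Sum.elim (Sum.elim x.2.1 0) x.2.2))
    rw [g.apply_symm_apply, coe_quadMinus] at e1
    rw [g'.apply_symm_apply, coe_quadMinus, QuadraticMap.neg_apply] at e2
    simp only [Cfsg.quadFormMinus, Sum.elim_inl, Sum.elim_inr, Pi.zero_apply, mul_zero, Finset.sum_const_zero,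
      zero_add] at e1 e2
    linear_combination e2 - e1
  · rw [LinearMap.finrank_range_of_inj, Module.finrank_prod, Module.finrank_prod, Fintype.card_sum]
    · simp only [Module.finrank_fin_fun]; omega
    · intro u v huv
      have h1 := g.symm.injective (funext fun j => congrFun huv (Sum.inl j) : g.symm _ = g.symm _)
      have h2 := g'.symm.injective (funext fun j => congrFun huv (Sum.inr j) : g'.symm _ = g'.symm _)
      exact Prod.ext (funext fun i => congrFun h1 (Sum.inl (Sum.inl i)))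
        (Prod.ext (funext fun i => congrFun h2 (Sum.inl (Sum.inl i))) (funext fun i => congrFun h1 (Sum.inr i)))

omit [Finite F] in
theorem sumForm_swap (Q₁ : QuadraticForm F (ι → F)) (Q₂ : QuadraticForm F (κ → F)) (v : κ ⊕ ι → F) :
    sumForm Q₁ Q₂ (LinearEquiv.funCongrLeft F F (Equiv.sumComm ι κ) v) = sumForm Q₂ Q₁ v := by
  rw [sumForm_apply, sumForm_apply, add_comm]
  congr 1

/-- The type of a sum. -/
theorem hasHalf_sum_iff {Q₁ : QuadraticForm F (ι → F)} {Q₂ : QuadraticForm F (κ → F)}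
    (n₁ : (polarBilin Q₁).Nondegenerate) (n₂ : (polarBilin Q₂).Nondegenerate)
    (e₁ : Even (Fintype.card ι)) (e₂ : Even (Fintype.card κ)) :
    HasHalf (sumForm Q₁ Q₂) ↔ (HasHalf Q₁ ↔ HasHalf Q₂) := by
  by_cases h₁ : HasHalf Q₁ <;> by_cases h₂ : HasHalf Q₂ <;> simp only [h₁, h₂, not_true, iff_true, iff_false, iff_self]
  · exact hasHalf_sum_plus h₁ h₂
  · exact not_hasHalf_sum n₁ n₂ e₁ e₂ h₁ h₂
  · rw [← hasHalf_congr _ (sumForm_swap Q₁ Q₂)]
    exact not_hasHalf_sum n₂ n₁ e₂ e₁ h₂ h₁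
  · exact hasHalf_sum_minus n₁ n₂ e₁ e₂ h₁ h₂

end CfsgLib.SemiClasses
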