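import Cfsg.Agent.SemiClasses.Setup
import Cfsg.Agent.SemiClasses.HalfSum
import Cfsg.Agent.FormConj.Orth

/-!
Multiplicities of isometries of quadratic forms.
-/

set_option autoImplicit false

open Matrix QuadraticMap

namespace CfsgLib.SemiClasses

variable {F L : Type*} [Field F] [Fintype F] [Field L] [Finite L] [Algebra F L] {p r : ℕ} [Fact p.Prime]
  [CharP F p] [hr : Fact r.Prime] {ζ : L} {ι κ : Type} [Fintype ι] [DecidableEq ι] [Fintype κ] [DecidableEq κ]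
  (hζ : IsPrimitiveRoot ζ r) (hrp : r ≠ p)

omit [Fintype F] in
theorem gram_spec (Q : QuadraticForm F (ι → F)) (hQ : (polarBilin Q).Nondegenerate) :
    ∃ G : Matrix ι ι F, IsUnit G.det ∧ Gᵀ = G ∧ (∀ x y, x ⬝ᵥ (G *ᵥ y) = polar Q x y) ∧
      ∀ X : Matrix ι ι F, (∀ v, Q (X *ᵥ v) = Q v) → Xᵀ * G * X = G := by
  obtain ⟨G, hGdef⟩ : ∃ G, G = LinearMap.toMatrix₂' F (polarBilin Q) := ⟨_, rfl⟩
  have hGp : ∀ x y, x ⬝ᵥ (G *ᵥ y) = polar Q x y := fun x y => by
    rw [← Matrix.toLinearMap₂'_apply', hGdef, Matrix.toLinearMap₂'_toMatrix', polarBilin_apply_apply]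
  refine ⟨G, ?_, ?_, hGp, fun X hX => ?_⟩
  · rw [← Matrix.isUnit_iff_isUnit_det, ← Matrix.mulVec_injective_iff_isUnit]
    refine (injective_iff_map_eq_zero G.mulVecLin).2 fun v hv => hQ.2 v fun w => ?_
    rw [Matrix.mulVecLin_apply] at hv
    rw [polarBilin_apply_apply, ← hGp, hv, dotProduct_zero]
  · ext i j
    rw [Matrix.transpose_apply, hGdef, LinearMap.toMatrix₂'_apply, LinearMap.toMatrix₂'_apply,
      polarBilin_apply_apply, polarBilin_apply_apply, polar_comm]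
  · refine Matrix.ext_of_mulVec_single fun i => dotProduct_eq _ _ fun u => ?_
    rw [dotProduct_comm, dotProduct_comm _ u]
    set v : ι → F := Pi.single i 1
    rw [← Matrix.mulVec_mulVec, ← Matrix.mulVec_mulVec, Matrix.dotProduct_mulVec u Xᵀ, Matrix.vecMul_transpose,
      hGp, hGp]
    simp only [polar, ← Matrix.mulVec_add, hX]

include hζ hrp

/-- An isometry has symmetric multiplicities. -/
theorem mult_neg_of_form {G A : Matrix ι ι F} (hG : IsUnit G.det) (hA : A ^ r = 1) (h : Aᵀ * G * A = G)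
    (x : ZMod r) : mult ζ A (-x) = mult ζ A x := by
  have hAu : IsUnit A.det := (Matrix.isUnit_iff_isUnit_det A).mp (IsUnit.of_pow_eq_one hA hr.out.ne_zero)
  have h1 : G * A⁻¹ = Aᵀ * G := by
    conv_lhs => rw [← h]
    rw [Matrix.mul_nonsing_inv_cancel_right _ _ hAu]
  rw [← mult_inv hζ hrp hA (-x), neg_neg, mult_of_similar hG h1, mult_transpose]

theorem mult_neg_of_isometry {Q : QuadraticForm F (ι → F)} (hQ : (polarBilin Q).Nondegenerate) {A : Matrix ι ι F}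
    (hA : A ^ r = 1) (h : ∀ v, Q (A *ᵥ v) = Q v) (x : ZMod r) : mult ζ A (-x) = mult ζ A x := by
  obtain ⟨G, hG, -, -, hGX⟩ := gram_spec Q hQ
  exact mult_neg_of_form hζ hrp hG hA (hGX A h) x

omit [Finite L] hrp [CharP F p] in
theorem isUnit_one_sub {A : Matrix ι ι F} (h0 : mult ζ A (0 : ZMod r) = 0) : IsUnit (A - 1).det := by
  refine isUnit_iff_ne_zero.mpr fun hdet => ?_
  have h1 : A.charpoly.eval 1 = 0 := by
    rw [Matrix.eval_charpoly, map_one, ← neg_sub, Matrix.det_neg, hdet, mul_zero]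
  have h2 : (A.charpoly.map (algebraMap F L)).IsRoot 1 := by
    rw [Polynomial.IsRoot.def, ← map_one (algebraMap F L), Polynomial.eval_map, Polynomial.eval₂_hom, h1, map_zero]
  rw [mult, ZMod.val_zero, pow_zero] at h0
  exact absurd h0 ((Polynomial.rootMultiplicity_pos ((Matrix.charpoly_monic A).map _).ne_zero).mpr h2).ne'

theorem isUnit_sq_sub_one (hr2 : r ≠ 2) {A : Matrix ι ι F} (hA : A ^ r = 1) (h0 : mult ζ A (0 : ZMod r) = 0) :
    IsUnit (A * A - 1).det := by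
  refine isUnit_one_sub hζ ?_
  have h2 : ((2 : ℕ) : ZMod r) ≠ 0 := fun h => hr2 ((Nat.prime_dvd_prime_iff_eq hr.out Nat.prime_two).mp
    ((ZMod.natCast_eq_zero_iff 2 r).mp h))
  have := mult_pow hζ hrp hA h2 0
  rw [zero_mul, h0, pow_two] at this
  exact this

/-- Two fixed-point-free models with equal multiplicities are isometric. -/
theorem hasHalf_iff_of_moving (hr2 : r ≠ 2) {Q : QuadraticForm F (ι → F)} {Q' : QuadraticForm F (κ → F)}
    (hQ : (polarBilin Q).Nondegenerate) (hQ' : (polarBilin Q').Nondegenerate) {A : Matrix ι ι F} {B : Matrix κ κ F}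
    (hA : A ^ r = 1) (hB : B ^ r = 1) (hAQ : ∀ v, Q (A *ᵥ v) = Q v) (hBQ : ∀ v, Q' (B *ᵥ v) = Q' v)
    (hm : ∀ x : ZMod r, mult ζ A x = mult ζ B x) (h0 : mult ζ A (0 : ZMod r) = 0) : HasHalf Q ↔ HasHalf Q' := by
  obtain ⟨e⟩ : Nonempty (ι ≃ κ) := ⟨Fintype.equivOfCardEq (by
    rw [← sum_mult hζ hA, ← sum_mult hζ hB]; exact Finset.sum_congr rfl fun x _ => hm x)⟩
  obtain ⟨P, hP, hPA⟩ := exists_similar hζ hrp e hA hB hm
  let φ : (ι → F) ≃ₗ[F] (κ → F) := (LinearEquiv.funCongrLeft F F e.symm).trans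
    (Matrix.toLinearEquiv' P (Matrix.invertibleOfIsUnitDet P hP))
  have hφv : ∀ v, φ v = P *ᵥ (v ∘ e.symm) := fun v => rfl
  have hφA : ∀ v, φ (A *ᵥ v) = B *ᵥ φ v := fun v => by
    rw [hφv, hφv, Matrix.mulVec_mulVec, ← hPA, ← Matrix.mulVec_mulVec, Matrix.reindex_apply,
      Matrix.submatrix_mulVec_equiv, Equiv.symm_symm]
    congr 1
    rw [Function.comp_assoc, Equiv.symm_comp_self, Function.comp_id]
  obtain ⟨R, hR⟩ : ∃ R : QuadraticForm F (ι → F), R = Q'.comp (φ : (ι → F) →ₗ[F] (κ → F)) := ⟨_, rfl⟩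
  have hRv : ∀ v, R v = Q' (φ v) := fun v => by rw [hR]; rfl
  have hRQ : (polarBilin R).Nondegenerate := CfsgLib.Forms.nondegenerate_iff.mpr fun x hx => φ.injective <| by
    rw [map_zero]
    refine CfsgLib.Forms.polar_ext hQ' fun y => ?_
    have := hx (φ.symm y)
    simpa [polar, hRv, map_add] using this
  have hAR : ∀ v, R (A *ᵥ v) = R v := fun v => by rw [hRv, hRv, hφA, hBQ]
  obtain ⟨G, hG, hGs, hGp, hGX⟩ := gram_spec Q hQ
  obtain ⟨H, hH, hHs, hHp, hHX⟩ := gram_spec R hRQ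
  obtain ⟨C, hC, hCA, hCH⟩ := CfsgLib.FormConj.exists_congr_commute (RingHom.id F) (fun _ => rfl) (G := G) (G' := H)
    (A := A) (ε := 1) hG hH (by rw [CfsgLib.FormConj.dag_id, hGs, one_smul])
    (by rw [CfsgLib.FormConj.dag_id, hHs, one_smul]) (by rw [CfsgLib.FormConj.dag_id]; exact hGX A hAQ)
    (by rw [CfsgLib.FormConj.dag_id]; exact hHX A hAR) (Or.inr (isUnit_sq_sub_one hζ hrp hr2 hA h0))
  rw [CfsgLib.FormConj.dag_id] at hCH
  have hpol : ∀ a b, polar Q (C *ᵥ a) (C *ᵥ b) = polar R a b := fun a b => by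
    rw [← hGp, ← hHp, ← Matrix.vecMul_transpose C a, ← Matrix.dotProduct_mulVec, Matrix.mulVec_mulVec,
      Matrix.mulVec_mulVec, hCH]
  have hQC : ∀ m, Q (C *ᵥ m) = R m := fun m => by
    obtain ⟨a, ha⟩ := Matrix.mulVec_surjective_iff_isUnit.2
      ((Matrix.isUnit_iff_isUnit_det _).2 (isUnit_one_sub hζ h0)) m
    have hAa : A *ᵥ a = a + m := by
      rw [← ha, Matrix.sub_mulVec, Matrix.one_mulVec, add_sub_cancel]
    have e1 : Q (C *ᵥ (A *ᵥ a)) = Q (C *ᵥ a) := by rw [Matrix.mulVec_mulVec, hCA, ← Matrix.mulVec_mulVec, hAQ]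
    have e2 : R (A *ᵥ a) = R a := hAR a
    rw [hAa, Matrix.mulVec_add, QuadraticMap.map_add (⇑Q)] at e1
    rw [hAa, QuadraticMap.map_add (⇑R)] at e2
    linear_combination e1 - e2 - hpol a m
  refine hasHalf_congr ((Matrix.toLinearEquiv' C (Matrix.invertibleOfIsUnitDet C hC)).symm.trans φ) fun v => ?_
  rw [LinearEquiv.trans_apply, ← hRv, ← hQC]
  congr 1
  exact (Matrix.toLinearEquiv' C (Matrix.invertibleOfIsUnitDet C hC)).apply_symm_apply v

omit [Fintype F] [Finite L] [CharP F p] hζ hrp in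
/-- Moving an isometry along an isometry of spaces. -/
theorem transport {Q : QuadraticForm F (ι → F)} {f : (κ → F) → F} {A : Matrix ι ι F}
    (hA : A ^ r = 1) (hAQ : ∀ v, Q (A *ᵥ v) = Q v) (g : (ι → F) ≃ₗ[F] (κ → F)) (hg : ∀ v, f (g v) = Q v) :
    ∃ B : ↥(Cfsg.isometryGroup F f), B ^ r = 1 ∧
      ∀ x : ZMod r, mult ζ (((B : GL κ F)) : Matrix κ κ F) x = mult ζ A x := by
  let M := LinearMap.toMatrixAlgEquiv' (g.conjAlgEquiv F (Matrix.toLinAlgEquiv' A))
  have hM : M ^ r = 1 := by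
    show (LinearMap.toMatrixAlgEquiv' (g.conjAlgEquiv F (Matrix.toLinAlgEquiv' A))) ^ r = 1
    rw [← map_pow, ← map_pow, ← map_pow, hA, map_one, map_one, map_one]
  obtain ⟨u, hu⟩ := IsUnit.of_pow_eq_one hM hr.out.ne_zero
  have hMv : ∀ w, M *ᵥ w = g (A *ᵥ g.symm w) := fun w => by
    show (LinearMap.toMatrix' (g.conj (Matrix.toLin' A))) *ᵥ w = _
    rw [LinearMap.toMatrix'_mulVec, LinearEquiv.conj_apply_apply, Matrix.toLin'_apply]
  refine ⟨⟨u, CfsgLib.Forms.mem_isometryGroup.mpr fun w => ?_⟩, Subtype.ext (Units.ext ?_), fun x => ?_⟩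
  · rw [hu, hMv, hg, hAQ, ← hg, g.apply_symm_apply]
  · rw [SubmonoidClass.coe_pow, OneMemClass.coe_one, Units.val_pow_eq_pow_val, Units.val_one]
    show (u : Matrix κ κ F) ^ r = 1
    rw [hu, hM]
  · refine congrFun (mult_of_charpoly ?_) x
    show (u : Matrix κ κ F).charpoly = A.charpoly
    rw [hu]
    show (LinearMap.toMatrix' (g.conj (Matrix.toLin' A))).charpoly = _
    rw [← LinearMap.toMatrix_eq_toMatrix', LinearMap.charpoly_toMatrix, LinearEquiv.charpoly_conj,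
      ← LinearMap.charpoly_toMatrix (Matrix.toLin' A) (Pi.basisFun F ι), LinearMap.toMatrix_eq_toMatrix',
      LinearMap.toMatrix'_toLin']

/-- Conjugacy of elements of order dividing `r` in an orthogonal group. -/
theorem isConj_iff_mult (hr2 : r ≠ 2) {Q : QuadraticForm F (ι → F)} (hQ : (polarBilin Q).Nondegenerate)
    (a b : ↥(Cfsg.isometryGroup F ⇑Q)) (ha : a ^ r = 1) (hb : b ^ r = 1) :
    IsConj a b ↔ (fun x : ZMod r => mult ζ ((a : GL ι F) : Matrix ι ι F) x) =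
      fun x : ZMod r => mult ζ ((b : GL ι F) : Matrix ι ι F) x := by
  constructor
  · intro h
    obtain ⟨c, hc⟩ := isConj_iff.mp h
    refine funext fun x => congrFun (mult_of_similar (Matrix.isUnits_det_units (c : GL ι F)) ?_) x
    rw [← Units.val_mul, ← Units.val_mul, ← Subgroup.coe_mul, ← Subgroup.coe_mul, ← hc, inv_mul_cancel_right]
  intro h
  have hpow : ∀ c : ↥(Cfsg.isometryGroup F ⇑Q), c ^ r = 1 → ((c : GL ι F) : Matrix ι ι F) ^ r = 1 := fun c hc => by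
    rw [← Units.val_pow_eq_pow_val, ← SubmonoidClass.coe_pow, hc, OneMemClass.coe_one, Units.val_one]
  let e : ι ≃ Fin (Fintype.card ι) := Fintype.equivFin ι
  obtain ⟨A, hA⟩ : ∃ X, X = ((a : GL ι F) : Matrix ι ι F) := ⟨_, rfl⟩
  obtain ⟨B, hB⟩ : ∃ X, X = ((b : GL ι F) : Matrix ι ι F) := ⟨_, rfl⟩
  have hAr : A ^ r = 1 := hA ▸ hpow a ha
  have hBr : B ^ r = 1 := hB ▸ hpow b hb
  let Q' : QuadraticForm F (Fin (Fintype.card ι) → F) := Q.comp (LinearMap.funLeft F F e)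
  have hQ'v : ∀ v, Q' v = Q (v ∘ e) := fun v => rfl
  have hQ' : (polarBilin Q').Nondegenerate := CfsgLib.Forms.nondegenerate_iff.mpr fun x hx => by
    have hxe : x ∘ e = 0 := CfsgLib.Forms.polar_ext hQ fun y => by
      have := hx (y ∘ e.symm)
      simp only [polar, hQ'v, show (x + y ∘ e.symm) ∘ e = x ∘ e + y by ext i; simp,
        show (y ∘ e.symm) ∘ e = y by ext i; simp] at this
      simpa [polar] using this
    funext i
    simpa using congrFun hxe (e.symm i)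
  have hre : ∀ (M : Matrix ι ι F) (v : Fin (Fintype.card ι) → F),
      (Matrix.reindex e e M *ᵥ v) ∘ e = M *ᵥ (v ∘ e) := fun M v => by
    rw [Matrix.reindex_apply, Matrix.submatrix_mulVec_equiv, Equiv.symm_symm]
    ext i; simp
  have hrp' : ∀ M : Matrix ι ι F, M ^ r = 1 → (Matrix.reindex e e M) ^ r = 1 := fun M hM => by
    show (Matrix.reindexAlgEquiv F F e M) ^ r = 1
    rw [← map_pow, hM, map_one]
  obtain ⟨P, hP, hPA⟩ := exists_similar hζ hrp e hAr (hrp' B hBr) fun x => by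
    rw [mult_reindex, hA, hB]; exact congrFun h x
  obtain ⟨g, hg, hgA⟩ := CfsgLib.FormConj.exists_orth_conj Q' hQ' (natCast_ne_zero hrp) (hrp' A hAr)
    (hr.out.odd_of_ne_two hr2)
    (fun v => by rw [hQ'v, hre, hQ'v, hA]; exact CfsgLib.Forms.mem_isometryGroup.mp a.2 _)
    (fun v => by rw [hQ'v, hre, hQ'v, hB]; exact CfsgLib.Forms.mem_isometryGroup.mp b.2 _) hP hPA
  let G : (ι → F) ≃ₗ[F] (ι → F) :=
    (LinearEquiv.funCongrLeft F F e.symm).trans (g.trans (LinearEquiv.funCongrLeft F F e))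
  have hG : ∀ v, G v = (g (v ∘ e.symm)) ∘ e := fun v => rfl
  let c : ↥(Cfsg.isometryGroup F ⇑Q) := ⟨CfsgLib.Forms.glEquiv.symm G, CfsgLib.Forms.mem_isometryGroup.mpr fun v => by
    rw [← CfsgLib.Forms.glEquiv_apply, MulEquiv.apply_symm_apply, hG, ← hQ'v, hg, hQ'v]
    congr 1
    ext i; simp⟩
  refine isConj_iff.mpr ⟨c, mul_inv_eq_iff_eq_mul.mpr (Subtype.ext (Units.ext (Matrix.ext_iff_mulVec.mpr fun v => ?_)))⟩
  rw [Subgroup.coe_mul, Subgroup.coe_mul, Units.val_mul, Units.val_mul, ← Matrix.mulVec_mulVec,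
    ← Matrix.mulVec_mulVec, ← CfsgLib.Forms.glEquiv_apply, ← CfsgLib.Forms.glEquiv_apply (c : GL ι F),
    MulEquiv.apply_symm_apply, hG, hG, ← hA, ← hB]
  have hv : (A *ᵥ v) ∘ e.symm = Matrix.reindex e e A *ᵥ (v ∘ e.symm) := by
    rw [Matrix.reindex_apply, Matrix.submatrix_mulVec_equiv, Equiv.symm_symm, Function.comp_assoc,
      Equiv.symm_comp_self, Function.comp_id]
  rw [hv, hgA, hre]

end CfsgLib.SemiClasses
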