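import Cfsg.Agent.SemiClasses.Roots

/-!
Classification of matrices of prime order by eigenvalue multiplicities, and powers.
-/

set_option autoImplicit false

open Polynomial

namespace CfsgLib.SemiClasses

variable {F L : Type*} [Field F] [Fintype F] [Field L] [Finite L] [Algebra F L] {p r : ℕ} [Fact p.Prime]
  [CharP F p] [hr : Fact r.Prime] {ζ : L} {ι : Type*} [Fintype ι] [DecidableEq ι]
  (hζ : IsPrimitiveRoot ζ r) (hrp : r ≠ p)

omit [Fintype F] [Finite L] [CharP F p] in
theorem natCast_ne_zero [CharP F p] (hrp : r ≠ p) : (r : F) ≠ 0 := fun h =>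
  hrp.symm ((Nat.prime_dvd_prime_iff_eq Fact.out hr.out).mp ((CharP.cast_eq_zero_iff F p r).mp h))

omit [Finite L] in
theorem coprime_order (hrp : r ≠ p) {G : Type*} [Monoid G] {g : G} (hg : g ^ r = 1) : (orderOf g).Coprime p :=
  Nat.Coprime.coprime_dvd_left (orderOf_dvd_of_pow_eq_one hg) ((Nat.coprime_primes hr.out Fact.out).mpr hrp)

include hζ hrp

omit [Finite L] in
/-- Matrices of order dividing `r` with equal multiplicities are similar. -/
theorem exists_similar {κ : Type*} [Fintype κ] [DecidableEq κ] (e : ι ≃ κ) {A : Matrix ι ι F} {B : Matrix κ κ F}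
    (hA : A ^ r = 1) (hB : B ^ r = 1) (h : ∀ x : ZMod r, mult ζ A x = mult ζ B x) :
    ∃ P : Matrix κ κ F, IsUnit P.det ∧ P * Matrix.reindex e e A = B * P := by
  let c : κ ≃ Fin (Fintype.card κ) := Fintype.equivFin κ
  let φ := Matrix.reindexAlgEquiv F F (e.trans c)
  let ψ := Matrix.reindexAlgEquiv F F c
  have hAu : IsUnit (φ A) := (IsUnit.of_pow_eq_one hA hr.out.ne_zero).map φ
  have hBu : IsUnit (ψ B) := (IsUnit.of_pow_eq_one hB hr.out.ne_zero).map ψ
  obtain ⟨g, hg⟩ := hAu
  obtain ⟨g', hg'⟩ := hBu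
  have hgr : g ^ r = 1 := Units.ext (by rw [Units.val_pow_eq_pow_val, hg, ← map_pow, hA, map_one, Units.val_one])
  have hgr' : g' ^ r = 1 := Units.ext (by rw [Units.val_pow_eq_pow_val, hg', ← map_pow, hB, map_one, Units.val_one])
  obtain ⟨u, hu⟩ := isConj_iff.mp (Cfsg.Agent.H29.Semisimple.gl_conj_of_charpoly g g' (coprime_order hrp hgr)
    (coprime_order hrp hgr') (by
      rw [hg, hg']
      show (Matrix.reindex _ _ A).charpoly = (Matrix.reindex _ _ B).charpoly
      rw [Matrix.charpoly_reindex, Matrix.charpoly_reindex]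
      exact charpoly_eq_of_mult hζ hA hB h))
  refine ⟨ψ.symm u.1, ?_, ?_⟩
  · rw [← Matrix.isUnit_iff_isUnit_det]; exact u.isUnit.map ψ.symm
  · apply ψ.injective
    have hφ : ψ (Matrix.reindex e e A) = φ A := rfl
    rw [map_mul, map_mul, AlgEquiv.apply_symm_apply, hφ, ← hg, ← hg', ← Units.val_mul, ← Units.val_mul,
      ← mul_inv_eq_iff_eq_mul.mp hu]

omit [Finite L] in
theorem gl_conj_of_mult {n : ℕ} (g h : GL (Fin n) F) (hg : g ^ r = 1) (hh : h ^ r = 1)
    (e : ∀ x : ZMod r, mult ζ (g : Matrix (Fin n) (Fin n) F) x = mult ζ (h : Matrix (Fin n) (Fin n) F) x) :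
    IsConj g h := by
  refine Cfsg.Agent.H29.Semisimple.gl_conj_of_charpoly g h (coprime_order hrp hg) (coprime_order hrp hh)
    (charpoly_eq_of_mult hζ ?_ ?_ e) <;> rw [← Units.val_pow_eq_pow_val]
  · rw [hg, Units.val_one]
  · rw [hh, Units.val_one]

/-- Every Galois invariant multiplicity function occurs. -/
theorem exists_of_mult (f : ZMod r → ℕ) (hf : ∀ x, f (x * (Fintype.card F : ZMod r)) = f x) {n : ℕ}
    (hn : ∑ x, f x = n) :
    ∃ g : GL (Fin n) F, g ^ r = 1 ∧ ∀ x, mult ζ (g : Matrix (Fin n) (Fin n) F) x = f x := by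
  obtain ⟨P, hPm, hPd, hP⟩ := exists_poly (F := F) hζ f hf
  have hdvd : ∀ R : F[X], Irreducible R → R ∣ P → R ∣ X ^ r - 1 := by
    intro R hR hd
    refine hR.prime.dvd_of_dvd_pow (hd.trans ((Polynomial.map_dvd_map (algebraMap F L) (algebraMap F L).injective hPm).mp
      (?_ : P.map _ ∣ ((X ^ r - 1) ^ n : F[X]).map (algebraMap F L))))
    rw [hP, Polynomial.map_pow, Polynomial.map_sub, Polynomial.map_pow, map_X, Polynomial.map_one,
      X_pow_sub_one_eq hζ, ← Finset.prod_pow]
    exact Finset.prod_dvd_prod_of_dvd _ _ fun x _ => pow_dvd_pow _ (hn ▸ Finset.single_le_sum (fun _ _ => Nat.zero_le _) (Finset.mem_univ x))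
  obtain ⟨g, hgc, hg⟩ := Cfsg.Agent.H29.Semisimple.exists_matrix p P hPm (hPd.trans hn) (by
    intro h0
    have : (P.map (algebraMap F L)).eval 0 = 0 := by rw [← map_zero (algebraMap F L), eval_map, eval₂_hom, h0]
    rw [hP, eval_prod, Finset.prod_eq_zero_iff] at this
    obtain ⟨x, -, hx⟩ := this
    rw [eval_pow, eval_sub, eval_X, eval_C, zero_sub] at hx
    exact pow_ne_zero _ (hζ.ne_zero hr.out.ne_zero) (neg_eq_zero.mp (eq_zero_of_pow_eq_zero hx)))
  refine ⟨g, CfsgLib.PrimeClasses.pow_eq_one_of_factors (natCast_ne_zero hrp) g hgc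
    (fun R hR hd => hdvd R hR (hg ▸ hd)), fun x => ?_⟩
  rw [mult, hg, hP, rootMultiplicity_pw hζ]

omit [Finite L] hrp in
/-- The multiplicity function of a split diagonal matrix. -/
theorem charpoly_diag (d : ι → ZMod r) :
    (Matrix.diagonal fun j => ζ ^ (d j).val).charpoly =
      ∏ x : ZMod r, (X - C (ζ ^ x.val)) ^ (Finset.univ.filter fun j => d j = x).card := by
  rw [Matrix.charpoly_diagonal, ← Finset.prod_fiberwise Finset.univ d]
  refine Finset.prod_congr rfl fun x _ => ?_
  rw [Finset.prod_congr rfl fun j hj => by rw [(Finset.mem_filter.mp hj).2], Finset.prod_const]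

/-- Powers permute the multiplicities. -/
theorem mult_pow {M : Matrix ι ι F} (hM : M ^ r = 1) {e : ℕ} (he : (e : ZMod r) ≠ 0) (x : ZMod r) :
    mult ζ (M ^ e) (x * (e : ZMod r)) = mult ζ M x := by
  classical
  haveI := Fintype.ofFinite L
  haveI : CharP L p := ((algebraMap F L).charP_iff (algebraMap F L).injective p).mp inferInstance
  obtain ⟨ML, hML⟩ : ∃ X, X = (algebraMap F L).mapMatrix M := ⟨_, rfl⟩
  have hMLr : ML ^ r = 1 := by rw [hML, ← map_pow, hM, map_one]
  have hcard := sum_mult hζ hM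
  obtain ⟨d, hd⟩ : ∃ d : ι → ZMod r, ∀ y, (Finset.univ.filter fun j => d j = y).card = mult ζ M y := by
    obtain ⟨eq⟩ : Nonempty (ι ≃ Σ y : ZMod r, Fin (mult ζ M y)) :=
      ⟨Fintype.equivOfCardEq (by rw [Fintype.card_sigma]; simpa using hcard.symm)⟩
    refine ⟨fun j => (eq j).1, fun y => ?_⟩
    rw [← Fintype.card_subtype]
    refine (Fintype.card_congr ((eq.subtypeEquiv (q := fun s => s.1 = y) fun j => Iff.rfl).trans
      (Equiv.sigmaSubtype y))).trans (Fintype.card_fin _)
  obtain ⟨D, hD⟩ : ∃ D, D = Matrix.diagonal fun j => ζ ^ (d j).val := ⟨_, rfl⟩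
  have hc : D.charpoly = ML.charpoly := by
    rw [hD, charpoly_diag hζ, hML, RingHom.mapMatrix_apply, Matrix.charpoly_map, charpoly_map_eq hζ hM]
    simp only [hd]
  have hDr : D ^ r = 1 := by
    rw [hD, Matrix.diagonal_pow, ← Matrix.diagonal_one]
    congr 1
    funext j
    rw [Pi.pow_apply, ← pow_mul, mul_comm, pow_mul, hζ.pow_eq_one, one_pow]
  have hζ' : IsPrimitiveRoot (algebraMap L L ζ) r := hζ
  obtain ⟨P, hP, hPD⟩ := exists_similar (F := L) hζ' hrp (Equiv.refl ι) hDr hMLr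
    fun y => congrFun (mult_of_charpoly hc) y
  rw [Matrix.reindex_refl_refl] at hPD
  have hpow : P * D ^ e = ML ^ e * P := (show SemiconjBy P D ML from hPD).pow_right e
  have hch : (M ^ e).charpoly.map (algebraMap F L) = (D ^ e).charpoly := by
    rw [← Matrix.charpoly_map, ← RingHom.mapMatrix_apply, map_pow, ← hML]
    rw [show D ^ e = P⁻¹ * (ML ^ e * P) by rw [← hpow, Matrix.nonsing_inv_mul_cancel_left _ _ hP],
      Matrix.charpoly_mul_comm, Matrix.mul_assoc, Matrix.mul_nonsing_inv _ hP, Matrix.mul_one]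
  rw [mult, hch, show D ^ e = Matrix.diagonal fun j => ζ ^ (d j * (e : ZMod r)).val by
    rw [hD, Matrix.diagonal_pow]
    congr 1
    funext j
    rw [Pi.pow_apply, pw_mul_natCast hζ], charpoly_diag hζ, rootMultiplicity_pw hζ, ← hd]
  congr 1
  exact Finset.filter_congr fun j _ => mul_left_inj' he

/-- The inverse negates the multiplicities. -/
theorem mult_inv {M : Matrix ι ι F} (hM : M ^ r = 1) (x : ZMod r) : mult ζ M⁻¹ (-x) = mult ζ M x := by
  have h1 : M⁻¹ = M ^ (r - 1) := Matrix.inv_eq_right_inv (by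
    rw [← pow_succ', Nat.sub_add_cancel hr.out.one_le, hM])
  have h2 : ((r - 1 : ℕ) : ZMod r) = -1 := by
    rw [Nat.cast_sub hr.out.one_le, ZMod.natCast_self, zero_sub, Nat.cast_one]
  have := mult_pow hζ hrp hM (e := r - 1) (by rw [h2]; exact neg_ne_zero.mpr one_ne_zero) x
  rwa [h2, mul_neg_one, ← h1] at this

omit [Finite L] in
/-- Field automorphisms act on the multiplicities. -/
theorem mult_map (θ : F →+* F) (k : ℕ) (hθ : ∀ a, θ a = a ^ p ^ k) (M : Matrix ι ι F) (x : ZMod r) :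
    mult ζ (M.map θ) (x * ((p ^ k : ℕ) : ZMod r)) = mult ζ M x := by
  haveI : CharP L p := ((algebraMap F L).charP_iff (algebraMap F L).injective p).mp inferInstance
  have hcomp : (iterateFrobenius L p k).comp (algebraMap F L) = (algebraMap F L).comp θ :=
    RingHom.ext fun a => by simp [iterateFrobenius_def, hθ, map_pow]
  rw [mult, mult, Matrix.charpoly_map, Polynomial.map_map, ← hcomp, ← Polynomial.map_map, pw_mul_natCast hζ,
    ← iterateFrobenius_def, ← eq_rootMultiplicity_map (iterateFrobenius L p k).injective]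

end CfsgLib.SemiClasses
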