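import Cfsg.Agent.PrimeClasses.GL

/-!
Eigenvalue multiplicities of matrices of prime order.
-/

set_option autoImplicit false

open Polynomial

namespace CfsgLib.SemiClasses

/-- A finite extension containing a primitive root of unity. -/
theorem exists_root_field (F : Type*) [Field F] [Finite F] {r : ℕ} (hr : r.Prime) (hrF : (r : F) ≠ 0) :
    ∃ P : F[X], ∃ _ : Fact (Irreducible P), Finite (AdjoinRoot P) ∧ IsPrimitiveRoot (AdjoinRoot.root P) r := by
  obtain ⟨P, hPm, hPi, hPd⟩ := exists_monic_irreducible_factor (cyclotomic r F)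
    (not_isUnit_of_natDegree_pos _ (by rw [natDegree_cyclotomic]; exact Nat.totient_pos.mpr hr.pos))
  haveI := Fact.mk hPi
  haveI := hPm.finite_adjoinRoot
  haveI : Finite (AdjoinRoot P) := Module.finite_of_finite F
  haveI : NeZero (r : AdjoinRoot P) := ⟨by
    rw [← map_natCast (algebraMap F (AdjoinRoot P))]
    exact fun h => hrF ((algebraMap F (AdjoinRoot P)).injective (h.trans (map_zero _).symm))⟩
  refine ⟨P, ⟨hPi⟩, inferInstance, isRoot_cyclotomic_iff.mp ?_⟩
  obtain ⟨R, hR⟩ := hPd
  rw [← map_cyclotomic r (algebraMap F (AdjoinRoot P)), hR, Polynomial.map_mul, IsRoot.def, eval_mul, eval_map,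
    show eval₂ (algebraMap F (AdjoinRoot P)) (AdjoinRoot.root P) P = 0 from AdjoinRoot.eval₂_root P, zero_mul]

variable {F L : Type*} [Field F] [Field L] [Algebra F L] {r : ℕ} [hr : Fact r.Prime] {ζ : L}
  {ι κ : Type*} [Fintype ι] [DecidableEq ι] [Fintype κ] [DecidableEq κ]

/-- The multiplicity of the eigenvalue `ζ ^ x`. -/
noncomputable def mult (ζ : L) (M : Matrix ι ι F) (x : ZMod r) : ℕ :=
  (M.charpoly.map (algebraMap F L)).rootMultiplicity (ζ ^ x.val)

variable (hζ : IsPrimitiveRoot ζ r)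

include hζ

theorem pw_natCast (n : ℕ) : ζ ^ (n : ZMod r).val = ζ ^ n := by
  rw [ZMod.val_natCast]
  conv_rhs => rw [← pow_mod_orderOf ζ n, ← hζ.eq_orderOf]

theorem pw_inj {x y : ZMod r} (h : ζ ^ x.val = ζ ^ y.val) : x = y :=
  ZMod.val_injective r (hζ.pow_inj (ZMod.val_lt x) (ZMod.val_lt y) h)

theorem pw_mul_natCast (x : ZMod r) (e : ℕ) : ζ ^ (x * e).val = (ζ ^ x.val) ^ e := by
  rw [← pow_mul]
  conv_rhs => rw [← pw_natCast hζ, Nat.cast_mul, ZMod.natCast_zmod_val]

omit hζ in
theorem pw_prod_monic (f : ZMod r → ℕ) : (∏ x : ZMod r, (X - C (ζ ^ x.val)) ^ f x).Monic :=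
  monic_prod_of_monic _ _ fun x _ => (monic_X_sub_C _).pow _

theorem rootMultiplicity_pw (f : ZMod r → ℕ) (x : ZMod r) :
    (∏ y : ZMod r, (X - C (ζ ^ y.val)) ^ f y).rootMultiplicity (ζ ^ x.val) = f x := by
  classical
  rw [← count_roots, roots_prod _ _ (Finset.prod_ne_zero_iff.mpr fun y _ => pow_ne_zero _ (X_sub_C_ne_zero _)),
    Multiset.count_bind]
  simp only [roots_pow, roots_X_sub_C, Multiset.count_nsmul, Multiset.count_singleton]
  rw [Finset.sum_map_val]
  rw [Finset.sum_eq_single x (fun y _ hy => by rw [if_neg (fun h => hy (pw_inj hζ h).symm), mul_zero])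
    (fun h => absurd (Finset.mem_univ x) h), if_pos rfl, mul_one]

theorem X_pow_sub_one_eq : (X ^ r - 1 : L[X]) = ∏ y : ZMod r, (X - C (ζ ^ y.val)) := by
  classical
  rw [← Finset.prod_image (f := fun a : L => X - C a) (g := fun y : ZMod r => ζ ^ y.val)
      (fun a _ b _ h => pw_inj hζ h),
    X_pow_sub_one_eq_prod hr.out.pos hζ]
  congr 1
  ext a
  rw [mem_nthRootsFinset hr.out.pos, Finset.mem_image]
  constructor
  · intro ha
    obtain ⟨i, -, rfl⟩ := hζ.eq_pow_of_pow_eq_one ha
    exact ⟨i, Finset.mem_univ _, pw_natCast hζ i⟩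
  · rintro ⟨y, -, rfl⟩
    rw [← pow_mul, mul_comm, pow_mul, hζ.pow_eq_one, one_pow]

theorem factor_linear {P : L[X]} (hP : P.Monic) (hPi : Irreducible P) (hd : P ∣ X ^ r - 1) :
    ∃ y : ZMod r, P = X - C (ζ ^ y.val) := by
  rw [X_pow_sub_one_eq hζ] at hd
  obtain ⟨y, -, hy⟩ := (hPi.prime.dvd_finsetProd_iff _).mp hd
  exact ⟨y, eq_of_monic_of_associated hP (monic_X_sub_C _) (hPi.associated_of_dvd (irreducible_X_sub_C _) hy)⟩

variable {M : Matrix ι ι F} (hM : M ^ r = 1)

include hM

theorem charpoly_map_eq :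
    M.charpoly.map (algebraMap F L) = ∏ x : ZMod r, (X - C (ζ ^ x.val)) ^ mult ζ M x := by
  classical
  let e := Fintype.equivFin ι
  obtain ⟨N, hN⟩ : ∃ N, N = (Matrix.reindex e e M).map (algebraMap F L) := ⟨_, rfl⟩
  have hf : N.charpoly = M.charpoly.map (algebraMap F L) := by
    rw [hN, Matrix.charpoly_map, Matrix.charpoly_reindex]
  have hNr : N ^ r = 1 := by
    rw [hN]
    show ((algebraMap F L).mapMatrix (Matrix.reindexAlgEquiv F F e M)) ^ r = 1
    rw [← map_pow, ← map_pow, hM, map_one, map_one]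
  have hroots : ∀ P, P ∈ UniqueFactorizationMonoid.normalizedFactors N.charpoly →
      ∃ y : ZMod r, P = X - C (ζ ^ y.val) := fun P hP => by
    have hi := UniqueFactorizationMonoid.irreducible_of_normalized_factor P hP
    refine factor_linear hζ ?_ hi (CfsgLib.PrimeClasses.factor_dvd N hNr hi
      (UniqueFactorizationMonoid.dvd_of_mem_normalizedFactors hP))
    rw [← UniqueFactorizationMonoid.normalize_normalized_factor P hP]
    exact monic_normalize hi.ne_zero
  have hne : N.charpoly ≠ 0 := (Matrix.charpoly_monic N).ne_zero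
  rw [← hf]
  have hsplit : N.charpoly.Splits := by
    refine Splits.of_dvd (g := N.charpoly) (Splits.of_dvd ?_ ?_
      (UniqueFactorizationMonoid.prod_normalizedFactors hne).symm.dvd) hne dvd_rfl
    · exact Splits.multisetProd fun P hP => by obtain ⟨y, rfl⟩ := hroots P hP; exact Splits.X_sub_C _
    · exact Multiset.prod_ne_zero (UniqueFactorizationMonoid.zero_notMem_normalizedFactors _)
  rw [Splits.eq_prod_roots_of_monic hsplit (Matrix.charpoly_monic N)]
  have hsub : ∀ a ∈ N.charpoly.roots, ∃ y : ZMod r, a = ζ ^ y.val := fun a ha => by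
    have hd := dvd_iff_isRoot.mpr ((mem_roots hne).mp ha)
    obtain ⟨P, hP, hPa⟩ := UniqueFactorizationMonoid.exists_mem_normalizedFactors_of_dvd hne (irreducible_X_sub_C a) hd
    obtain ⟨y, rfl⟩ := hroots P hP
    exact ⟨y, C_injective (sub_right_injective (eq_of_monic_of_associated (monic_X_sub_C a) (monic_X_sub_C _) hPa))⟩
  rw [Finset.prod_multiset_map_count, Finset.prod_subset (s₂ := Finset.univ.image fun y : ZMod r => ζ ^ y.val)
    (fun a ha => by
      obtain ⟨y, rfl⟩ := hsub a (Multiset.mem_toFinset.mp ha)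
      exact Finset.mem_image_of_mem _ (Finset.mem_univ y))
    (fun a _ ha => by rw [Multiset.count_eq_zero.mpr (fun h => ha (Multiset.mem_toFinset.mpr h)), pow_zero]),
    Finset.prod_image (fun a _ b _ h => pw_inj hζ h)]
  refine Finset.prod_congr rfl fun y _ => ?_
  rw [count_roots, mult, hf]

theorem sum_mult : ∑ x : ZMod r, mult ζ M x = Fintype.card ι := by
  have h := congrArg natDegree (charpoly_map_eq hζ hM)
  rw [natDegree_map, Matrix.charpoly_natDegree_eq_dim,
    natDegree_prod_of_monic _ _ fun x _ => (monic_X_sub_C _).pow _] at h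
  rw [h]
  exact Finset.sum_congr rfl fun x _ => by rw [natDegree_pow, natDegree_X_sub_C, mul_one]

theorem charpoly_eq_of_mult {N : Matrix κ κ F} (hN : N ^ r = 1) (h : ∀ x : ZMod r, mult ζ M x = mult ζ N x) :
    M.charpoly = N.charpoly :=
  map_injective _ (algebraMap F L).injective (by
    rw [charpoly_map_eq hζ hM, charpoly_map_eq hζ hN]; simp only [h])

omit hζ hM

theorem mult_of_charpoly {N : Matrix κ κ F} (h : M.charpoly = N.charpoly) :
    mult (r := r) ζ M = mult ζ N :=
  funext fun x => by rw [mult, mult, h]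

theorem mult_blocks (A : Matrix ι ι F) (D : Matrix κ κ F) (x : ZMod r) :
    mult ζ (Matrix.fromBlocks A 0 0 D) x = mult ζ A x + mult ζ D x := by
  rw [mult, Matrix.charpoly_fromBlocks_zero₂₁, Polynomial.map_mul, rootMultiplicity_mul]
  · rfl
  · exact mul_ne_zero ((Matrix.charpoly_monic A).map _).ne_zero ((Matrix.charpoly_monic D).map _).ne_zero

theorem mult_transpose (A : Matrix ι ι F) : mult (r := r) ζ A.transpose = mult ζ A :=
  mult_of_charpoly (Matrix.charpoly_transpose A)

theorem mult_reindex (e : ι ≃ κ) (A : Matrix ι ι F) : mult (r := r) ζ (Matrix.reindex e e A) = mult ζ A :=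
  mult_of_charpoly (Matrix.charpoly_reindex e A)

theorem mult_of_similar {A B P : Matrix ι ι F} (hP : IsUnit P.det) (h : P * A = B * P) :
    mult (r := r) ζ A = mult ζ B := by
  refine mult_of_charpoly ?_
  have hA : A = P⁻¹ * (B * P) := by rw [← h, Matrix.nonsing_inv_mul_cancel_left _ _ hP]
  rw [hA, Matrix.charpoly_mul_comm, Matrix.mul_assoc, Matrix.mul_nonsing_inv _ hP, Matrix.mul_one]

include hζ

theorem mult_one (x : ZMod r) : mult ζ (1 : Matrix ι ι F) x = if x = 0 then Fintype.card ι else 0 := by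
  rw [mult, Matrix.charpoly_one, Polynomial.map_pow, Polynomial.map_sub, map_X, Polynomial.map_one, ← C_1]
  split_ifs with h
  · rw [h, ZMod.val_zero, pow_zero, rootMultiplicity_X_sub_C_pow]
  · refine rootMultiplicity_eq_zero fun hx => h (pw_inj hζ ?_)
    rw [IsRoot.def, eval_pow, eval_sub, eval_X, eval_C] at hx
    rw [ZMod.val_zero, pow_zero]
    exact sub_eq_zero.mp (eq_zero_of_pow_eq_zero hx)

variable [Fintype F]

omit hM in
/-- The Galois group permutes the eigenvalues. -/
theorem mult_frob (M : Matrix ι ι F) (x : ZMod r) :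
    mult ζ M (x * (Fintype.card F : ZMod r)) = mult ζ M x := by
  set φ := (FiniteField.frobeniusAlgHom F L).toRingHom with hφ
  have hmap : (M.charpoly.map (algebraMap F L)).map φ = M.charpoly.map (algebraMap F L) := by
    rw [Polynomial.map_map]
    congr 1
    exact RingHom.ext fun a => (FiniteField.frobeniusAlgHom F L).commutes a
  rw [mult, mult, eq_rootMultiplicity_map φ.injective (ζ ^ x.val), hmap, pw_mul_natCast hζ]
  rfl

omit hM in
theorem isUnit_card : IsUnit (Fintype.card F : ZMod r) := by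
  refine isUnit_iff_ne_zero.mpr fun h => ?_
  rw [ZMod.natCast_eq_zero_iff] at h
  obtain ⟨e, hp, he⟩ := FiniteField.card F (ringChar F)
  have hd : r = ringChar F := (Nat.prime_dvd_prime_iff_eq hr.out hp).mp (hr.out.dvd_of_dvd_pow (he ▸ h))
  haveI := hζ.neZero'
  refine NeZero.ne ((r : ℕ) : L) ?_
  rw [← map_natCast (algebraMap F L), show (r : F) = 0 by rw [hd]; exact ringChar.Nat.cast_ringChar, map_zero]

omit hζ hM in
theorem mem_range_of_pow_card {a : L} (h : a ^ Fintype.card F = a) : a ∈ Set.range (algebraMap F L) := by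
  classical
  set q := Fintype.card F
  have hq : 1 < q := Fintype.one_lt_card
  have hne : (X ^ q - X : L[X]) ≠ 0 := FiniteField.X_pow_card_sub_X_ne_zero L hq
  have hdeg : (X ^ q - X : L[X]).natDegree = q := FiniteField.X_pow_card_sub_X_natDegree_eq L hq
  have hsub : Finset.univ.image (algebraMap F L) ⊆ (X ^ q - X : L[X]).roots.toFinset := fun b hb => by
    obtain ⟨c, -, rfl⟩ := Finset.mem_image.mp hb
    rw [Multiset.mem_toFinset, mem_roots hne, IsRoot.def, eval_sub, eval_pow, eval_X, ← map_pow, FiniteField.pow_card,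
      sub_self]
  have hcard : (X ^ q - X : L[X]).roots.toFinset.card ≤ (Finset.univ.image (algebraMap F L)).card := by
    rw [Finset.card_image_of_injective _ (algebraMap F L).injective, Finset.card_univ]
    exact (Multiset.toFinset_card_le _).trans ((card_roots' _).trans hdeg.le)
  have ha : a ∈ (X ^ q - X : L[X]).roots.toFinset := by
    simp [Multiset.mem_toFinset, mem_roots hne, h]
  rw [← Finset.eq_of_subset_of_card_le hsub hcard, Finset.mem_image] at ha
  obtain ⟨c, -, hc⟩ := ha
  exact ⟨c, hc⟩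

omit hM in
theorem exists_poly [Finite L] (f : ZMod r → ℕ) (hf : ∀ x, f (x * (Fintype.card F : ZMod r)) = f x) :
    ∃ P : F[X], P.Monic ∧ P.natDegree = ∑ x, f x ∧
      P.map (algebraMap F L) = ∏ x : ZMod r, (X - C (ζ ^ x.val)) ^ f x := by
  set Q : L[X] := ∏ x : ZMod r, (X - C (ζ ^ x.val)) ^ f x with hQ
  set φ := (FiniteField.frobeniusAlgHom F L).toRingHom with hφ
  obtain ⟨u, hu⟩ := isUnit_card (F := F) hζ
  have hfix : Q.map φ = Q := by
    rw [hQ, Polynomial.map_prod]
    refine Finset.prod_bij (fun x _ => x * (u : ZMod r)) (fun _ _ => Finset.mem_univ _)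
      (fun a _ b _ h => u.isUnit.mul_left_injective h)
      (fun b _ => ⟨b * ((u⁻¹ : (ZMod r)ˣ) : ZMod r), Finset.mem_univ _, by rw [Units.inv_mul_cancel_right]⟩) fun x _ => ?_
    rw [hu, hf, Polynomial.map_pow, Polynomial.map_sub, map_X, map_C, pw_mul_natCast hζ]
    rfl
  have hlift : Q ∈ lifts (algebraMap F L) := by
    rw [lifts_iff_coeff_lifts]
    intro n
    have h := congrArg (fun P => coeff P n) hfix
    simp only [coeff_map] at h
    rw [hφ] at h
    change Q.coeff n ^ Fintype.card F = Q.coeff n at h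
    exact mem_range_of_pow_card h
  obtain ⟨P, hP, hPd, hPm⟩ := lifts_and_natDegree_eq_and_monic hlift (pw_prod_monic f)
  refine ⟨P, hPm, ?_, hP⟩
  rw [hPd, hQ, natDegree_prod_of_monic _ _ fun x _ => (monic_X_sub_C _).pow _]
  exact Finset.sum_congr rfl fun x _ => by rw [natDegree_pow, natDegree_X_sub_C, mul_one]

end CfsgLib.SemiClasses
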