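import Cfsg.Agent.SemiClasses.Mult
import Cfsg.Agent.SemiClasses.Card

/-!
Common data for the counts of classes of prime order.
-/

set_option autoImplicit false

namespace CfsgLib.SemiClasses

theorem exists_unit_card {F : Type*} [Field F] [Fintype F] {p q r : ℕ} [Fact p.Prime] [CharP F p] [hr : Fact r.Prime]
    (hq : q ∣ Fintype.card F) (hrp : r ≠ p) : ∃ u : (ZMod r)ˣ, (u : ZMod r) = q := by
  refine ⟨Units.mk0 (q : ZMod r) fun h => ?_, rfl⟩
  rw [ZMod.natCast_eq_zero_iff] at h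
  obtain ⟨e, -, he⟩ := FiniteField.card F p
  exact hrp ((Nat.prime_dvd_prime_iff_eq hr.out Fact.out).mp (hr.out.dvd_of_dvd_pow (he ▸ h.trans hq)))

theorem invariant_sq {r : ℕ} (f : ZMod r → ℕ) (c : ZMod r) (h : ∀ x, f (x * c) = f x) (x : ZMod r) :
    f (x * (c * c)) = f x := by
  rw [← mul_assoc, h, h]

end CfsgLib.SemiClasses
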